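import Cfsg.Agent.Lib.H62.DerClasses

set_option autoImplicit false

/-! Derangements in groups with a transitive abelian normal subgroup. -/

namespace H62.AffineDer

open MulAction

variable {G Ω : Type*} [Group G] [MulAction G Ω]

theorem card_fixedBy_eq_zero {g : G} (h : ∀ ω : Ω, g • ω ≠ ω) : Nat.card (fixedBy Ω g) = 0 := by
  have : IsEmpty (fixedBy Ω g) := ⟨fun x => h x.1 x.2⟩
  exact Nat.card_of_isEmpty

theorem not_fixed_of_mem [FaithfulSMul G Ω] (N : Subgroup G) [IsPretransitive N Ω]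
    (hc : ∀ a ∈ N, ∀ b ∈ N, a * b = b * a) {g : G} (hg : g ∈ N) (hg1 : g ≠ 1) (ω : Ω) : g • ω ≠ ω :=
  fun h => hg1 (H62.PrimGroup.eq_one_of_centralizes (Δ := Ω) N (fun n hn => hc g hg n hn) h)

theorem le_one_of_derangements_le [Finite G] [Finite Ω] [FaithfulSMul G Ω] [IsPretransitive G Ω]
    [Nonempty Ω] (N : Subgroup G) [N.Normal] [IsPretransitive N Ω]
    (hc : ∀ a ∈ N, ∀ b ∈ N, a * b = b * a) (hD : ∀ g : G, (∀ ω : Ω, g • ω ≠ ω) → g ∈ N)
    (g : G) (hg : g ≠ 1) : Nat.card (fixedBy Ω g) ≤ 1 := by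
  by_cases h : g ∈ N
  · rw [card_fixedBy_eq_zero (not_fixed_of_mem N hc h hg)]
    exact Nat.zero_le 1
  · rw [H62.Derangement.card_fixedBy_eq_one N hD h]

theorem mem_of_le_one [Finite G] [Finite Ω] [Nonempty Ω] (N : Subgroup G) [IsPretransitive N Ω]
    (h : ∀ g : G, g ≠ 1 → Nat.card (fixedBy Ω g) ≤ 1) (g : G) (hg : ∀ ω : Ω, g • ω ≠ ω) : g ∈ N := by
  by_contra hcon
  have h1 := H62.Derangement.fixed_eq_one_of_le_one (Ω := Ω) N g (fun d hd => h _ (by
    intro h1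
    apply hcon
    rw [← inv_mul_cancel_left d g, h1, mul_one]
    exact N.inv_mem hd)) 1 N.one_mem
  rw [one_mul, card_fixedBy_eq_zero hg] at h1
  exact zero_ne_one h1

theorem two_transitive [FaithfulSMul G Ω] [IsPretransitive G Ω] (N : Subgroup G) [N.Normal]
    [IsPretransitive N Ω] (hc : ∀ a ∈ N, ∀ b ∈ N, a * b = b * a)
    (hconj : ∀ a ∈ N, ∀ b ∈ N, a ≠ 1 → b ≠ 1 → IsConj a b) : IsMultiplyPretransitive G Ω 2 := by
  rw [is_two_pretransitive_iff]
  intro a b c d hab hcd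
  obtain ⟨g₀, hg₀⟩ := exists_smul_eq G a c
  have hb : g₀ • b ≠ c := by
    rw [← hg₀]
    intro h
    exact hab (smul_left_cancel g₀ h).symm
  obtain ⟨n, hn⟩ := exists_smul_eq N c (g₀ • b)
  obtain ⟨n', hn'⟩ := exists_smul_eq N c d
  have hn : (n : G) • c = g₀ • b := hn
  have hn' : (n' : G) • c = d := hn'
  have h1 : (n : G) ≠ 1 := by
    intro h
    rw [h, one_smul] at hn
    exact hb hn.symm
  have h2 : (n' : G) ≠ 1 := by
    intro h
    rw [h, one_smul] at hn'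
    exact hcd hn'
  obtain ⟨x, hx⟩ := isConj_iff.mp (hconj n n.2 n' n'.2 h1 h2)
  obtain ⟨m, hm⟩ := exists_smul_eq N c (x • c)
  have hm : (m : G) • c = x • c := hm
  set h := (m : G)⁻¹ * x with hh
  have hhc : h • c = c := by rw [hh, mul_smul, ← hm, inv_smul_smul]
  have hconj2 : h * n * h⁻¹ = n' := by
    have e : h * n * h⁻¹ = (m : G)⁻¹ * (x * n * x⁻¹) * m := by rw [hh]; group
    rw [e, hx, mul_assoc, hc n' n'.2 m m.2, inv_mul_cancel_left]
  refine ⟨h * g₀, by rw [mul_smul, hg₀, hhc], ?_⟩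
  have h3 : h⁻¹ • c = c := inv_smul_eq_iff.mpr hhc.symm
  calc (h * g₀) • b = h • (n : G) • c := by rw [mul_smul, ← hn]
    _ = h • (n : G) • h⁻¹ • c := by rw [h3]
    _ = (h * n * h⁻¹) • c := by simp only [mul_smul]
    _ = d := by rw [hconj2, hn']

end H62.AffineDer
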