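import Cfsg.Agent.Lib.H62.Derangement
import Cfsg.Agent.Lib.H62.PrimGroup
import Cfsg.Agent.Lib.H62.ConjRep
import Cfsg.Agent.Lib.H63.MinNormalFactor
import Cfsg.Agent.Lib.H4.Burnside

set_option autoImplicit false

/-! Primitive groups that are neither affine nor almost simple have at least three conjugacy
classes of derangements. -/

namespace H62.DerClasses

open MulAction H63.MinNormalFactor

/-- A nonabelian finite simple group has order divisible by at least three primes. -/
theorem three_primes (T : Type*) [Group T] [Finite T] [IsSimpleGroup T]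
    (hT : ¬ ∀ a b : T, a * b = b * a) :
    ∃ p q r : ℕ, p.Prime ∧ q.Prime ∧ r.Prime ∧ p ≠ q ∧ p ≠ r ∧ q ≠ r ∧
      p ∣ Nat.card T ∧ q ∣ Nat.card T ∧ r ∣ Nat.card T := by
  have hns : ¬ Group.IsSolvable T := by
    intro hs
    exact hT (fun a b => (IsSimpleGroup.comm_iff_isSolvable.mpr hs) a b)
  have hpow : ∀ p q : ℕ, p.Prime → q.Prime → ¬ (Nat.card T).primeFactors ⊆ {p, q} := by
    intro p q hp hq hsub
    apply hns
    apply H4.Burnside.isSolvable_of_card_eq p q hp hq (Nat.card T) T rfl
    have h0 : Nat.card T ≠ 0 := Nat.card_pos.ne'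
    have h1 := Nat.factorization_prod_pow_eq_self h0
    rw [Finsupp.prod_of_support_subset (s := {p, q}) _ (by simpa using hsub) _ (fun i _ => pow_zero i)] at h1
    by_cases hpq : p = q
    · subst hpq
      simp only [Finset.pair_eq_singleton, Finset.prod_singleton] at h1
      exact ⟨(Nat.card T).factorization p, 0, by rw [pow_zero, mul_one]; exact h1.symm⟩
    · rw [Finset.prod_pair hpq] at h1
      exact ⟨_, _, h1.symm⟩
  have h1 := hpow 2 2 Nat.prime_two Nat.prime_two
  rw [Finset.not_subset] at h1
  obtain ⟨p, hp, -⟩ := h1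
  have hpp := Nat.prime_of_mem_primeFactors hp
  have h2 := hpow p p hpp hpp
  rw [Finset.not_subset] at h2
  obtain ⟨q, hq, hqn⟩ := h2
  have hqq := Nat.prime_of_mem_primeFactors hq
  have h3 := hpow p q hpp hqq
  rw [Finset.not_subset] at h3
  obtain ⟨r, hr, hrn⟩ := h3
  have hrr := Nat.prime_of_mem_primeFactors hr
  simp only [Finset.mem_insert, Finset.mem_singleton, not_or] at hqn hrn
  exact ⟨p, q, r, hpp, hqq, hrr, fun h => hqn.1 h.symm, fun h => hrn.1 h.symm,
    fun h => hrn.2 h.symm, Nat.dvd_of_mem_primeFactors hp,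
    Nat.dvd_of_mem_primeFactors hq, Nat.dvd_of_mem_primeFactors hr⟩

theorem not_isConj_of_orderOf_ne {G : Type*} [Group G] {x y : G} (h : orderOf x ≠ orderOf y) :
    ¬ IsConj x y := by
  rintro hc
  apply h
  rw [isConj_iff] at hc
  obtain ⟨c, rfl⟩ := hc
  have := (MulAut.conj c).orderOf_eq x
  simpa using this.symm

/-- A simple nonabelian subgroup consisting of derangements gives three classes. -/
theorem three_of_subgroup {G Ω : Type*} [Group G] [Finite G] [MulAction G Ω] (T : Subgroup G)
    (hs : IsSimpleGroup T) (hc : ¬ ∀ a ∈ T, ∀ b ∈ T, a * b = b * a)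
    (hd : ∀ t ∈ T, t ≠ 1 → ∀ ω : Ω, t • ω ≠ ω) :
    ∃ x : Fin 3 → G, (∀ i, ∀ ω : Ω, x i • ω ≠ ω) ∧ ∀ i j, i ≠ j → ¬ IsConj (x i) (x j) := by
  obtain ⟨p, q, r, hp, hq, hr, hpq, hpr, hqr, h1, h2, h3⟩ := three_primes T (by
    intro h
    apply hc
    intro a ha b hb
    exact congrArg Subtype.val (h ⟨a, ha⟩ ⟨b, hb⟩))
  have := Fact.mk hp
  have := Fact.mk hq
  have := Fact.mk hr
  obtain ⟨a, ha⟩ := exists_prime_orderOf_dvd_card' p h1
  obtain ⟨b, hb⟩ := exists_prime_orderOf_dvd_card' q h2
  obtain ⟨c, hcc⟩ := exists_prime_orderOf_dvd_card' r h3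
  have hne : ∀ (x : T) (s : ℕ), s.Prime → orderOf x = s → (x : G) ≠ 1 := by
    intro x s hs hx h
    have : x = 1 := Subtype.ext h
    rw [this, orderOf_one] at hx
    exact hs.one_lt.ne hx
  have oa : orderOf (a : G) = p := by rw [Subgroup.orderOf_coe, ha]
  have ob : orderOf (b : G) = q := by rw [Subgroup.orderOf_coe, hb]
  have oc : orderOf (c : G) = r := by rw [Subgroup.orderOf_coe, hcc]
  refine ⟨![a, b, c], ?_, ?_⟩
  · intro i
    fin_cases i
    · exact hd a a.2 (hne a p hp ha)
    · exact hd b b.2 (hne b q hq hb)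
    · exact hd c c.2 (hne c r hr hcc)
  · intro i j hij
    apply not_isConj_of_orderOf_ne
    fin_cases i <;> fin_cases j <;> simp_all <;> omega

variable {G Ω : Type*} [Group G] [Finite G] [MulAction G Ω] [Finite Ω]

/-- Nonabelian socle, not almost simple: three pairwise nonconjugate derangements. -/
theorem exists_three [FaithfulSMul G Ω] [IsPreprimitive G Ω] [Nonempty Ω]
    (N : Subgroup G) (hN : N.Normal) (hNbot : N ≠ ⊥)
    (hmin : ∀ M : Subgroup G, M.Normal → M ≤ N → M ≠ ⊥ → M = N)
    (hNc : ¬ ∀ a ∈ N, ∀ b ∈ N, a * b = b * a)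
    (hnas : ¬ ∃ T : Subgroup G, T.Normal ∧ IsSimpleGroup T ∧ ¬ IsMulCommutative T ∧
      Subgroup.centralizer (T : Set G) = ⊥) :
    ∃ x : Fin 3 → G, (∀ i, ∀ ω : Ω, x i • ω ≠ ω) ∧ ∀ i j, i ≠ j → ¬ IsConj (x i) (x j) := by
  classical
  have hNtr : IsPretransitive N Ω := H62.PrimGroup.normal_transitive (Δ := Ω) N hNbot
  obtain ⟨T, hTle, hTne, hTn, hTmin⟩ := H63.MinNormalFactor.exists_min N hNbot
  have hT : Factor N T := ⟨hTle, hTne, hTn, hTmin⟩
  have hTs := H63.MinNormalFactor.isSimpleGroup hN hmin hT
  have hTc := H63.MinNormalFactor.T_not_comm hN hmin hT hNc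
  have hinf := H63.MinNormalFactor.inf_cc hN hmin hT hNc
  by_cases hC : Subgroup.centralizer (N : Set G) = ⊥
  · obtain ⟨α⟩ := ‹Nonempty Ω›
    -- T is not normal
    have hex : ∃ g, cj g T ≠ T := by
      by_contra hcon
      push Not at hcon
      have hTN : T = N := by
        rw [← H63.MinNormalFactor.iSup_cj hN hmin hT]
        simp only [hcon]
        exact ciSup_const.symm
      apply hnas
      refine ⟨N, hN, ?_, ?_, hC⟩
      · rw [← hTN]; exact hTs
      · intro h
        exact hNc (fun a ha b hb => congrArg Subtype.val (h.is_comm.comm ⟨a, ha⟩ ⟨b, hb⟩))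
    have hcjn : ∀ n ∈ N, ∀ g, cj (n * g) T = cj g T := by
      intro n hn g
      ext x
      rw [mem_cj, mem_cj]
      have hn1 : g⁻¹ * n * g ∈ N := by simpa using hN.conj_mem n hn g⁻¹
      have e : (n * g)⁻¹ * x * (n * g) = (g⁻¹ * n * g)⁻¹ * (g⁻¹ * x * g) * (g⁻¹ * n * g) := by group
      rw [e]
      constructor
      · intro h
        have := hTn _ hn1 _ h
        have e2 : g⁻¹ * n * g * ((g⁻¹ * n * g)⁻¹ * (g⁻¹ * x * g) * (g⁻¹ * n * g)) * (g⁻¹ * n * g)⁻¹
          = g⁻¹ * x * g := by group
        rwa [e2] at this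
      · intro h
        have := hTn _ (N.inv_mem hn1) _ h
        rwa [inv_inv] at this
    have hex' : ∃ h ∈ stabilizer G α, cj h T ≠ T := by
      obtain ⟨g, hg⟩ := hex
      obtain ⟨n, hn⟩ := exists_smul_eq N α (g • α)
      have hn' : (n : G) • α = g • α := hn
      refine ⟨(n : G)⁻¹ * g, ?_, ?_⟩
      · rw [mem_stabilizer_iff, mul_smul, ← hn', inv_smul_smul]
      · rw [hcjn _ (N.inv_mem n.2)]; exact hg
    obtain ⟨h, hh, hhT⟩ := hex'
    by_cases hb : T ⊓ stabilizer G α = ⊥
    · apply three_of_subgroup (Ω := Ω) T hTs hTc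
      intro t ht ht1 ω hω
      obtain ⟨n, hn⟩ := exists_smul_eq N α ω
      have hn' : (n : G) • α = ω := hn
      apply ht1
      have h1 : (n : G)⁻¹ * t * n ∈ T ⊓ stabilizer G α := by
        refine ⟨?_, ?_⟩
        · have := hTn _ (N.inv_mem n.2) _ ht
          rwa [inv_inv] at this
        · change ((n : G)⁻¹ * t * n) • α = α
          rw [mul_smul, mul_smul, hn', hω, inv_smul_eq_iff, hn']
      rw [hb, Subgroup.mem_bot] at h1
      have h2 : t = n * ((n : G)⁻¹ * t * n) * (n : G)⁻¹ := by group
      rw [h2, h1, mul_one, mul_inv_cancel]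
    -- the projection of the stabilizer
    · let R : Subgroup T :=
        { carrier := {t | ∃ c ∈ cc N T, (t : G) * c ∈ stabilizer G α}
          one_mem' := ⟨1, Subgroup.one_mem _, by simp⟩
          mul_mem' := by
            rintro a b ⟨c, hc, hac⟩ ⟨d, hd, hbd⟩
            refine ⟨c * d, Subgroup.mul_mem _ hc hd, ?_⟩
            have h1 := (mem_cc.mp hc).2 b b.2
            have e : ((a * b : T) : G) * (c * d) = (a * c) * (b * d) := by
              change (a : G) * b * (c * d) = (a * c) * (b * d)
              rw [mul_assoc, ← mul_assoc (b : G) c d, h1]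
              simp only [mul_assoc]
            rw [e]
            exact Subgroup.mul_mem _ hac hbd
          inv_mem' := by
            rintro a ⟨c, hc, hac⟩
            refine ⟨c⁻¹, Subgroup.inv_mem _ hc, ?_⟩
            have h1 := (mem_cc.mp hc).2 a a.2
            have := Subgroup.inv_mem _ hac
            rw [h1, mul_inv_rev] at this
            exact this }
      have hR : R ≠ ⊤ := by
        intro hR
        have h1 := H63.MinNormalFactor.T_simple hN hmin hT (S := T ⊓ stabilizer G α) inf_le_left hb (by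
          intro t ht s hs
          have ht' : (⟨t, ht⟩ : T) ∈ R := by rw [hR]; trivial
          obtain ⟨c, hc, htc⟩ := ht'
          have h1 := (mem_cc.mp hc).2 s hs.1
          have h2 : t * s * t⁻¹ = (t * c) * s * (t * c)⁻¹ := by
            rw [mul_assoc t c s, ← h1]
            group
          refine ⟨T.mul_mem (T.mul_mem ht hs.1) (T.inv_mem ht), ?_⟩
          rw [h2]
          exact Subgroup.mul_mem _ (Subgroup.mul_mem _ htc hs.2) (Subgroup.inv_mem _ htc))
        have hTst : T ≤ stabilizer G α := by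
          rw [← h1]; exact inf_le_right
        apply hTne
        rw [eq_bot_iff]
        intro t ht
        rw [Subgroup.mem_bot]
        apply FaithfulSMul.eq_of_smul_eq_smul (α := Ω)
        intro x
        obtain ⟨n, rfl⟩ := exists_smul_eq N α x
        have h2 : (n : G)⁻¹ * t * n ∈ T := by
          have := hTn _ (N.inv_mem n.2) _ ht
          rwa [inv_inv] at this
        have h3 := mem_stabilizer_iff.mp (hTst h2)
        rw [mul_smul, mul_smul, inv_smul_eq_iff] at h3
        rw [one_smul]
        exact h3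
      obtain ⟨t, ht⟩ := H62.Derangement.exists_not_mem_conj R hR
      have hbad : ∀ c ∈ cc N T, ∀ ω : Ω, ((t : G) * c) • ω ≠ ω := by
        intro c hc ω hω
        obtain ⟨n, hn⟩ := exists_smul_eq N α ω
        have hn' : (n : G) • α = ω := hn
        obtain ⟨u, hu, d, hd, hud⟩ := H63.MinNormalFactor.exists_mul hN hmin hT n.2
        apply ht ⟨u, hu⟩
        refine ⟨d⁻¹ * c * d, ?_, ?_⟩
        · exact Subgroup.mul_mem _ (Subgroup.mul_mem _ (Subgroup.inv_mem _ hd) hc) hd
        · have hd1 := (mem_cc.mp (Subgroup.inv_mem _ hd)).2 _ (T.mul_mem (T.mul_mem (T.inv_mem hu) t.2) hu)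
          have hc1 := (mem_cc.mp hc).2 _ hu
          have e : u⁻¹ * (t : G) * u * (d⁻¹ * c * d) = (n : G)⁻¹ * (t * c) * n := by
            rw [hud, mul_inv_rev]
            calc u⁻¹ * (t : G) * u * (d⁻¹ * c * d) = (u⁻¹ * (t : G) * u * d⁻¹) * c * d := by group
              _ = (d⁻¹ * (u⁻¹ * (t : G) * u)) * c * d := by rw [hd1]
              _ = d⁻¹ * u⁻¹ * t * (u * c) * d := by group
              _ = d⁻¹ * u⁻¹ * t * (c * u) * d := by rw [hc1]
              _ = _ := by group
          change u⁻¹ * (t : G) * u * (d⁻¹ * c * d) ∈ stabilizer G α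
          rw [e, mem_stabilizer_iff, mul_smul, mul_smul, hn', hω, inv_smul_eq_iff, hn']
      -- good element
      obtain ⟨s, hsT, hs1⟩ : ∃ s ∈ T ⊓ stabilizer G α, s ≠ 1 := by
        by_contra hcon
        push Not at hcon
        exact hb ((Subgroup.eq_bot_iff_forall _).mpr hcon)
      have ht1 : (t : G) ≠ 1 := by
        intro h1
        have := hbad 1 (Subgroup.one_mem _) α
        rw [h1, mul_one, one_smul] at this
        exact this rfl
      have hcjcc : cj h T ≤ cc N T := H63.MinNormalFactor.cj_le_cc hN hT hhT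
      have ht2 : h * t * h⁻¹ ∈ cj h T := mem_cj.mpr (by simp [mul_assoc])
      have hs2 : h * s * h⁻¹ ∈ cj h T := mem_cj.mpr (by simpa [mul_assoc] using hsT.1)
      have htder : ∀ ω : Ω, (t : G) • ω ≠ ω := by
        intro ω
        have := hbad 1 (Subgroup.one_mem _) ω
        rwa [mul_one] at this
      have ht2ne : h * t * h⁻¹ ≠ 1 := by
        intro h1
        rw [mul_inv_eq_one, mul_eq_left] at h1
        exact ht1 h1
      have hs2ne : h * s * h⁻¹ ≠ 1 := by
        intro h1
        rw [mul_inv_eq_one, mul_eq_left] at h1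
        exact hs1 h1
      have hs2fix : (h * s * h⁻¹) • α = α := by
        have h1 : h⁻¹ • α = α := by rw [inv_smul_eq_iff]; exact (mem_stabilizer_iff.mp hh).symm
        rw [mul_smul, mul_smul, h1, mem_stabilizer_iff.mp hsT.2, mem_stabilizer_iff.mp hh]
      -- conjugates lie in T or cc
      have hdich : ∀ g, cj g T = T ∨ cj g T ≤ cc N T := by
        intro g
        by_cases hg : cj g T = T
        · exact Or.inl hg
        · exact Or.inr (H63.MinNormalFactor.cj_le_cc hN hT hg)
      have hnotin : ∀ x, x ∈ T → x ∈ cc N T → x = 1 := by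
        intro x h1 h2
        have : x ∈ T ⊓ cc N T := ⟨h1, h2⟩
        rwa [hinf, Subgroup.mem_bot] at this
      -- first nonconjugacy
      have hnc1 : ∀ c ∈ cj h T, c ≠ 1 → ¬ IsConj (t : G) (t * c) := by
        intro c hc hc1 hconj
        rw [isConj_iff] at hconj
        obtain ⟨g, hg⟩ := hconj
        have hmem : g * t * g⁻¹ ∈ cj g T := mem_cj.mpr (by simp [mul_assoc])
        rw [hg] at hmem
        rcases hdich g with h1 | h1
        · rw [h1] at hmem
          have : c ∈ T := by
            have := T.mul_mem (T.inv_mem t.2) hmem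
            rwa [inv_mul_cancel_left] at this
          exact hc1 (hnotin c this (hcjcc hc))
        · have h2 := h1 hmem
          have : (t : G) ∈ cc N T := by
            have := Subgroup.mul_mem _ h2 (Subgroup.inv_mem _ (hcjcc hc))
            rwa [mul_inv_cancel_right] at this
          exact ht1 (hnotin t t.2 this)
      have hnc2 : ¬ IsConj ((t : G) * (h * t * h⁻¹)) (t * (h * s * h⁻¹)) := by
        intro hconj
        rw [isConj_iff] at hconj
        obtain ⟨g, hg⟩ := hconj
        have e : g * ((t : G) * (h * t * h⁻¹)) * g⁻¹ = (g * t * g⁻¹) * ((g * h) * t * (g * h)⁻¹) := by group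
        rw [e] at hg
        have hm1 : g * t * g⁻¹ ∈ cj g T := mem_cj.mpr (by simp [mul_assoc])
        have hm2 : (g * h) * t * (g * h)⁻¹ ∈ cj (g * h) T := mem_cj.mpr (by
          have : (g * h)⁻¹ * ((g * h) * t * (g * h)⁻¹) * (g * h) = t := by group
          rw [this]; exact t.2)
        have hfin : ∀ k : G, k * t * k⁻¹ ≠ h * s * h⁻¹ := by
          intro k hk
          apply htder (k⁻¹ • α)
          have : (k * t * k⁻¹) • α = α := by rw [hk]; exact hs2fix
          rw [mul_smul, mul_smul] at this
          rw [eq_inv_smul_iff]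
          exact this
        have htc : ∀ x y : G, x ∈ T → y ∈ cc N T → x * y = t * (h * s * h⁻¹) → y = h * s * h⁻¹ := by
          intro x y hx hy hxy
          have h1 : (t : G)⁻¹ * x = (h * s * h⁻¹) * y⁻¹ := by
            rw [inv_mul_eq_iff_eq_mul, ← mul_assoc, ← hxy, mul_inv_cancel_right]
          have h2 : (t : G)⁻¹ * x = 1 := by
            apply hnotin
            · exact T.mul_mem (T.inv_mem t.2) hx
            · rw [h1]
              exact Subgroup.mul_mem _ (hcjcc hs2) (Subgroup.inv_mem _ hy)
          rw [h2] at h1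
          exact (mul_inv_eq_one.mp h1.symm).symm
        rcases hdich g with h1 | h1
        · rcases hdich (g * h) with h2 | h2
          · apply hhT
            ext x
            have h3 : cj (g * h) T = cj g T := by rw [h1, h2]
            have h4 := SetLike.ext_iff.mp h3 (g * x * g⁻¹)
            rw [mem_cj, mem_cj] at h4
            rw [mem_cj]
            have e1 : (g * h)⁻¹ * (g * x * g⁻¹) * (g * h) = h⁻¹ * x * h := by group
            have e2 : g⁻¹ * (g * x * g⁻¹) * g = x := by group
            rw [e1, e2] at h4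
            exact h4
          · rw [h1] at hm1
            exact hfin _ (htc _ _ hm1 (h2 hm2) hg)
        · rcases hdich (g * h) with h2 | h2
          · rw [h2] at hm2
            have hcomm := (mem_cc.mp (h1 hm1)).2 _ hm2
            rw [← hcomm] at hg
            exact hfin _ (htc _ _ hm2 (h1 hm1) hg)
          · apply ht1
            apply hnotin t t.2
            have h3 : (t : G) * (h * s * h⁻¹) ∈ cc N T := by
              rw [← hg]
              exact Subgroup.mul_mem _ (h1 hm1) (h2 hm2)
            have := Subgroup.mul_mem _ h3 (Subgroup.inv_mem _ (hcjcc hs2))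
            rwa [mul_inv_cancel_right] at this
      refine ⟨![t, t * (h * t * h⁻¹), t * (h * s * h⁻¹)], ?_, ?_⟩
      · intro i
        fin_cases i
        · exact htder
        · exact hbad _ (hcjcc ht2)
        · exact hbad _ (hcjcc hs2)
      · intro i j hij
        fin_cases i <;> fin_cases j
        · exact absurd rfl hij
        · exact hnc1 _ ht2 ht2ne
        · exact hnc1 _ hs2 hs2ne
        · exact fun hc => hnc1 _ ht2 ht2ne hc.symm
        · exact absurd rfl hij
        · exact hnc2
        · exact fun hc => hnc1 _ hs2 hs2ne hc.symm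
        · exact fun hc => hnc2 hc.symm
        · exact absurd rfl hij
  · -- the centralizer is transitive
    have hCn : (Subgroup.centralizer (N : Set G)).Normal := inferInstance
    have hCtr : IsPretransitive (Subgroup.centralizer (N : Set G)) Ω :=
      H62.PrimGroup.normal_transitive (Δ := Ω) _ hC
    apply three_of_subgroup (Ω := Ω) T hTs hTc
    intro t ht ht1 ω hω
    apply ht1
    exact H62.PrimGroup.eq_one_of_centralizes (Δ := Ω) (Subgroup.centralizer (N : Set G))
      (fun n hn => (Subgroup.mem_centralizer_iff.mp hn) t (hTle ht)) hω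

theorem three_le_card {x : Fin 3 → G} (hx : ∀ i, ∀ ω : Ω, x i • ω ≠ ω)
    (hc : ∀ i j, i ≠ j → ¬ IsConj (x i) (x j)) :
    3 ≤ Nat.card {c : ConjClasses G // ∃ g : G, ConjClasses.mk g = c ∧ ∀ ω : Ω, g • ω ≠ ω} := by
  let f : Fin 3 → {c : ConjClasses G // ∃ g : G, ConjClasses.mk g = c ∧ ∀ ω : Ω, g • ω ≠ ω} :=
    fun i => ⟨ConjClasses.mk (x i), x i, rfl, hx i⟩
  have hf : Function.Injective f := by
    intro i j hij
    by_contra hne
    apply hc i j hne
    rw [← ConjClasses.mk_eq_mk_iff_isConj]
    exact congrArg Subtype.val hij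
  have := Nat.card_le_card_of_injective f hf
  rwa [Nat.card_eq_fintype_card, Fintype.card_fin] at this

end H62.DerClasses
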