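import Cfsg.Agent.Lib.H62.Derangement

set_option autoImplicit false

/-! Divisibility of degree-like numbers by the index of a normal subgroup containing all derangements. -/

namespace H62.DerIndex

open MulAction
open scoped Pointwise

/-- If every orbit inside an invariant finite set has size divisible by `k`, so has the set. -/
theorem dvd_ncard_of_dvd_orbit {H X : Type*} [Group H] [MulAction H X] [Finite X] (k : ℕ) :
    ∀ (n : ℕ) (S : Set X), S.ncard = n → (∀ h : H, ∀ x ∈ S, h • x ∈ S) →
      (∀ x ∈ S, k ∣ (orbit H x).ncard) → k ∣ S.ncard := by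
  intro n
  induction n using Nat.strong_induction_on with
  | _ n ih =>
    intro S hn hinv hdvd
    rcases S.eq_empty_or_nonempty with h0 | ⟨x, hx⟩
    · rw [h0, Set.ncard_empty]; exact dvd_zero k
    · have hsub : orbit H x ⊆ S := by
        rintro _ ⟨h, rfl⟩
        exact hinv h x hx
      have hcard := Set.ncard_sdiff_add_ncard_of_subset hsub
      have hpos : 0 < (orbit H x).ncard := (Set.ncard_pos (Set.toFinite _)).mpr ⟨x, mem_orbit_self x⟩
      have h1 : k ∣ (S \ orbit H x).ncard := by
        apply ih (S \ orbit H x).ncard (by omega) _ rfl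
        · intro h y hy
          refine ⟨hinv h y hy.1, fun hmem => hy.2 ?_⟩
          have := mem_orbit_of_mem_orbit h⁻¹ hmem
          rwa [inv_smul_smul] at this
        · intro y hy
          exact hdvd y hy.1
      rw [← hcard]
      exact Nat.dvd_add h1 (hdvd x hx)

variable {G Ω : Type*} [Group G] [MulAction G Ω]

theorem sup_stabilizer_eq_top (D : Subgroup G) [D.Normal] [IsPretransitive D Ω] (α : Ω) :
    D ⊔ stabilizer G α = ⊤ := by
  rw [eq_top_iff]
  intro g _
  rw [Subgroup.mem_sup_of_normal_left]
  obtain ⟨d, hd⟩ := exists_smul_eq D α (g • α)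
  refine ⟨d.1, d.2, d.1⁻¹ * g, ?_, by simp⟩
  rw [mem_stabilizer_iff, mul_smul, ← hd]
  exact inv_smul_smul d.1 α

theorem relIndex_stabilizer (D : Subgroup G) [D.Normal] [IsPretransitive D Ω] (α : Ω) :
    D.relIndex (stabilizer G α) = D.index := by
  rw [← Subgroup.relIndex_sup_left, sup_stabilizer_eq_top, Subgroup.relIndex_top_right]

theorem index_dvd_card_orbit {X : Type*} (D : Subgroup G) [D.Normal] [IsPretransitive D Ω] (α : Ω)
    [MulAction (stabilizer G α) X] (x : X)
    (h : ∀ g : stabilizer G α, g • x = x → (g : G) ∈ D) :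
    D.index ∣ (orbit (stabilizer G α) x).ncard := by
  rw [← relIndex_stabilizer D α, ← index_stabilizer, Subgroup.relIndex]
  apply Subgroup.index_dvd_of_le
  intro g hg
  exact h g hg

theorem two_le_card_fixedBy [Finite Ω] {g : G} {a b : Ω} (hab : a ≠ b) (ha : g • a = a) (hb : g • b = b) :
    2 ≤ Nat.card (fixedBy Ω g) := by
  have : ({a, b} : Set Ω) ⊆ fixedBy Ω g := by
    intro x hx
    rcases hx with rfl | rfl
    · exact ha
    · exact hb
  have h1 := Set.ncard_le_ncard this (Set.toFinite _)
  rw [Set.ncard_pair hab] at h1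
  exact h1

variable [Finite G] [Finite Ω]

theorem index_dvd [IsPretransitive G Ω] [Nonempty Ω]
    (D : Subgroup G) [D.Normal] (hD : ∀ g : G, (∀ ω : Ω, g • ω ≠ ω) → g ∈ D) :
    D.index ∣ Nat.card Ω - 1 := by
  have := H62.Derangement.isPretransitive_of_derangements_le D hD
  obtain ⟨α⟩ := ‹Nonempty Ω›
  have h1 : Nat.card Ω - 1 = ({α}ᶜ : Set Ω).ncard := by
    rw [Set.ncard_compl, Set.ncard_singleton]
  rw [h1]
  apply dvd_ncard_of_dvd_orbit (H := stabilizer G α) _ _ _ rfl
  · intro h x hx hmem
    apply hx
    have h2 : (h : G) • x = α := hmem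
    have h3 : (h : G) • α = α := h.2
    have : (h : G) • x = (h : G) • α := by rw [h2, h3]
    exact smul_left_cancel _ this
  · intro x hx
    apply index_dvd_card_orbit D α x
    intro g hg
    by_contra hcon
    have h1 := H62.Derangement.card_fixedBy_eq_one (Ω := Ω) D hD hcon
    have h2 : 2 ≤ Nat.card (fixedBy Ω (g : G)) :=
      two_le_card_fixedBy (a := x) (b := α) hx hg g.2
    omega

theorem isPrimePow_of_index_eq [IsPretransitive G Ω] [FaithfulSMul G Ω] (hΩ : 2 ≤ Nat.card Ω)
    (D : Subgroup G) [D.Normal] (hD : ∀ g : G, (∀ ω : Ω, g • ω ≠ ω) → g ∈ D)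
    (hidx : D.index = Nat.card Ω - 1) : IsPrimePow (Nat.card Ω) := by
  classical
  have hne : Nonempty Ω := (Nat.card_pos_iff.mp (by omega)).1
  have htr := H62.Derangement.isPretransitive_of_derangements_le D hD
  have h1 : ∀ g : G, g ∉ D → Nat.card (fixedBy Ω g) = 1 := fun g hg =>
    H62.Derangement.card_fixedBy_eq_one D hD hg
  -- each two point stabilizer has index n - 1
  have hkey : ∀ α β : Ω, α ≠ β → (orbit (stabilizer G α) β) = {α}ᶜ ∧
      ∀ d ∈ D, d • α = α → d • β = β := by
    intro α β hab
    have hsub : orbit (stabilizer G α) β ⊆ {α}ᶜ := by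
      rintro _ ⟨h, rfl⟩ hmem
      have h2 : (h : G) • β = α := hmem
      have h3 : (h : G) • α = α := h.2
      have : (h : G) • β = (h : G) • α := by rw [h2, h3]
      exact hab (smul_left_cancel _ this).symm
    have hst : ∀ g : stabilizer G α, g • β = β → (g : G) ∈ D := by
      intro g hg
      by_contra hcon
      have h2 : 2 ≤ Nat.card (fixedBy Ω (g : G)) :=
        two_le_card_fixedBy (a := β) (b := α) hab.symm hg g.2
      have := h1 _ hcon
      omega
    have hdvd := index_dvd_card_orbit D α β hst
    have hcompl : ({α}ᶜ : Set Ω).ncard = Nat.card Ω - 1 := by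
      rw [Set.ncard_compl, Set.ncard_singleton]
    have hpos : 0 < (orbit (stabilizer G α) β).ncard :=
      (Set.ncard_pos (Set.toFinite _)).mpr ⟨β, mem_orbit_self β⟩
    have hle := Set.ncard_le_ncard hsub (Set.toFinite _)
    have hge := Nat.le_of_dvd hpos hdvd
    have heq : (orbit (stabilizer G α) β).ncard = Nat.card Ω - 1 := by omega
    refine ⟨Set.eq_of_subset_of_ncard_le hsub (by omega) (Set.toFinite _), ?_⟩
    intro d hd hdα
    -- compare indices
    have hidx2 : (stabilizer (stabilizer G α) β).index = D.relIndex (stabilizer G α) := by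
      rw [index_stabilizer, heq, relIndex_stabilizer, hidx]
    have hle2 : stabilizer (stabilizer G α) β ≤ D.subgroupOf (stabilizer G α) := fun g hg => hst g hg
    have hrel : (stabilizer (stabilizer G α) β).relIndex (D.subgroupOf (stabilizer G α)) = 1 := by
      have := Subgroup.relIndex_mul_index hle2
      rw [hidx2] at this
      have hp : 0 < (D.subgroupOf (stabilizer G α)).index := Nat.pos_of_ne_zero Subgroup.index_ne_zero_of_finite
      exact Nat.eq_of_mul_eq_mul_right hp (by rw [this, one_mul]; rfl)
    rw [Subgroup.relIndex_eq_one] at hrel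
    have hm : (⟨d, hdα⟩ : stabilizer G α) ∈ D.subgroupOf (stabilizer G α) := hd
    exact hrel hm
  -- D is regular
  have hreg : ∀ d ∈ D, ∀ α : Ω, d • α = α → d = 1 := by
    intro d hd α hα
    apply FaithfulSMul.eq_of_smul_eq_smul (α := Ω)
    intro β
    rw [one_smul]
    by_cases h : α = β
    · rw [← h]; exact hα
    · exact (hkey α β h).2 d hd hα
  obtain ⟨α⟩ := hne
  have hcardD : Nat.card D = Nat.card Ω := by
    have h2 := index_stabilizer D α
    rw [orbit_eq_univ, Set.ncard_univ] at h2
    have h3 : stabilizer D α = ⊥ := by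
      rw [eq_bot_iff]
      intro d hd
      rw [Subgroup.mem_bot]
      exact Subtype.ext (hreg d.1 d.2 α hd)
    rwa [h3, Subgroup.index_bot] at h2
  -- all nonidentity elements of D are conjugate
  have hconj : ∀ d₁ ∈ D, ∀ d₂ ∈ D, d₁ ≠ 1 → d₂ ≠ 1 → orderOf d₁ = orderOf d₂ := by
    intro d₁ hd₁ d₂ hd₂ h₁ h₂
    have hb : α ≠ d₁ • α := fun h => h₁ (hreg d₁ hd₁ α h.symm)
    have hc : d₂ • α ∈ ({α}ᶜ : Set Ω) := fun h => h₂ (hreg d₂ hd₂ α h)
    rw [← (hkey α (d₁ • α) hb).1] at hc
    obtain ⟨g, hg⟩ := hc
    have hg' : (g : G) • (d₁ • α) = d₂ • α := hg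
    have hgα : (g : G)⁻¹ • α = α := by
      rw [inv_smul_eq_iff]; exact g.2.symm
    have hmem : (g : G) * d₁ * (g : G)⁻¹ ∈ D := ‹D.Normal›.conj_mem _ hd₁ _
    have heq : (g : G) * d₁ * (g : G)⁻¹ = d₂ := by
      rw [← inv_mul_eq_one]
      apply hreg _ (D.mul_mem (D.inv_mem hmem) hd₂) α
      rw [mul_smul, inv_smul_eq_iff, mul_smul, mul_smul, hgα, hg']
    rw [← heq]
    have := (MulAut.conj (g : G)).orderOf_eq d₁
    simpa using this.symm
  obtain ⟨p, hp, hpd⟩ := Nat.exists_prime_and_dvd (show Nat.card D ≠ 1 by omega)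
  have := Fact.mk hp
  obtain ⟨x, hx⟩ := exists_prime_orderOf_dvd_card' (G := D) p hpd
  have hx1 : (x : G) ≠ 1 := by
    intro h
    have : x = 1 := Subtype.ext h
    rw [this, orderOf_one] at hx
    exact hp.one_lt.ne hx
  have hpg : IsPGroup p D := by
    intro y
    refine ⟨1, ?_⟩
    rw [pow_one]
    by_cases hy : y = 1
    · rw [hy, one_pow]
    · have hy1 : (y : G) ≠ 1 := fun h => hy (Subtype.ext h)
      have := hconj x.1 x.2 y.1 y.2 hx1 hy1
      rw [Subgroup.orderOf_coe, Subgroup.orderOf_coe, hx] at this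
      rw [this]
      exact pow_orderOf_eq_one y
  rw [IsPGroup.iff_card] at hpg
  obtain ⟨k, hk⟩ := hpg
  rw [← hcardD, hk]
  refine hp.isPrimePow.pow ?_
  rintro rfl
  rw [pow_zero] at hk
  omega

/-- Imprimitive case: the index is at most `√n - 1`. -/
theorem sq_le_of_block [IsPretransitive G Ω]
    (D : Subgroup G) [D.Normal] (hD : ∀ g : G, (∀ ω : Ω, g • ω ≠ ω) → g ∈ D)
    (B : Set Ω) (hB : IsBlock G B) (hnt : B.Nontrivial) (hBu : B ≠ Set.univ) :
    (D.index + 1) ^ 2 ≤ Nat.card Ω := by
  classical
  obtain ⟨α, hα, α', hα', hne'⟩ := hnt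
  have hne : Nonempty Ω := ⟨α⟩
  have htr := H62.Derangement.isPretransitive_of_derangements_le D hD
  have h1 : ∀ g : G, g ∉ D → Nat.card (fixedBy Ω g) = 1 := fun g hg =>
    H62.Derangement.card_fixedBy_eq_one D hD hg
  have hstB : ∀ g : stabilizer G α, (g : G) • B = B := by
    intro g
    have := hB.stabilizer_le hα g.2
    exact this
  -- first divisibility
  have hb : D.index ∣ B.ncard - 1 := by
    have h2 : B.ncard - 1 = (B \ {α}).ncard := by
      rw [Set.ncard_sdiff_singleton_of_mem hα]
    rw [h2]
    apply dvd_ncard_of_dvd_orbit (H := stabilizer G α) _ _ _ rfl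
    · intro h x hx
      refine ⟨?_, ?_⟩
      · have : (h : G) • x ∈ (h : G) • B := Set.smul_mem_smul_set hx.1
        rw [hstB h] at this
        exact this
      · intro hmem
        apply hx.2
        have h2 : (h : G) • x = α := hmem
        have h3 : (h : G) • α = α := h.2
        have : (h : G) • x = (h : G) • α := by rw [h2, h3]
        exact smul_left_cancel _ this
    · intro x hx
      apply index_dvd_card_orbit D α x
      intro g hg
      by_contra hcon
      have h1 := h1 _ hcon
      have h2 : 2 ≤ Nat.card (fixedBy Ω (g : G)) :=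
        two_le_card_fixedBy (a := x) (b := α) hx.2 hg g.2
      omega
  -- second divisibility
  have hm : D.index ∣ (orbit G B).ncard - 1 := by
    have h2 : (orbit G B).ncard - 1 = (orbit G B \ {B}).ncard := by
      rw [Set.ncard_sdiff_singleton_of_mem (mem_orbit_self B)]
    rw [h2]
    apply dvd_ncard_of_dvd_orbit (H := stabilizer G α) _ _ _ rfl
    · intro h X hX
      refine ⟨?_, ?_⟩
      · exact mem_orbit_of_mem_orbit (h : G) hX.1
      · intro hmem
        apply hX.2
        have h2 : (h : G) • X = B := hmem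
        have h3 : (h : G) • B = B := hstB h
        have : (h : G) • X = (h : G) • B := by rw [h2, h3]
        exact smul_left_cancel _ this
    · intro X hX
      apply index_dvd_card_orbit D α X
      intro g hg
      by_contra hcon
      obtain ⟨x, rfl⟩ := hX.1
      simp only at hg hX
      -- the block X = x • B, disjoint from B
      have hdisj : Disjoint (x • B) B := by
        have := hB (g₁ := x) (g₂ := 1)
        rw [one_smul] at this
        exact this (fun h => hX.2 h)
      have hgX : (g : G) • (x • B) = x • B := hg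
      -- restrict to the stabilizer of X
      let G' := stabilizer G (x • B)
      let D' : Subgroup G' := D.subgroupOf G'
      have hBX : IsBlock G (x • B) := hB.translate x
      have htr' : IsPretransitive D' (x • B : Set Ω) := by
        constructor
        rintro ⟨u, hu⟩ ⟨v, hv⟩
        obtain ⟨d, hd⟩ := exists_smul_eq D u v
        have hd' : (d : G) • u = v := hd
        have hdst : (d : G) • (x • B) = x • B := by
          rcases (isBlock_iff_smul_eq_or_disjoint.mp hBX) (d : G) with h | h
          · exact h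
          · exfalso
            exact Set.disjoint_left.mp h (Set.smul_mem_smul_set hu) (by rw [hd']; exact hv)
        exact ⟨⟨⟨d.1, hdst⟩, d.2⟩, Subtype.ext hd'⟩
      have hneX : Nonempty (x • B : Set Ω) := ⟨⟨x • α, Set.smul_mem_smul_set hα⟩⟩
      have hone := H62.Derangement.fixed_eq_one_of_le_one (Ω := (x • B : Set Ω)) D' (⟨g.1, hgX⟩ : G') (by
        intro d hd
        have hnot : (d : G) * g.1 ∉ D := by
          intro hmem
          exact hcon ((D.mul_mem_cancel_left hd).mp hmem)
        have hc := h1 _ hnot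
        rw [← hc]
        apply Nat.card_le_card_of_injective
          (fun y : fixedBy (x • B : Set Ω) (d * (⟨g.1, hgX⟩ : G')) =>
            (⟨y.1.1, by
              have := y.2
              rw [mem_fixedBy] at this ⊢
              exact congrArg Subtype.val this⟩ : fixedBy Ω ((d : G) * g.1)))
        intro y z hyz
        have : y.1.1 = z.1.1 := by
          simp only [Subtype.mk.injEq] at hyz
          exact hyz
        exact Subtype.ext (Subtype.ext this)) 1 D'.one_mem
      rw [one_mul] at hone
      have hex : Nonempty (fixedBy (x • B : Set Ω) (⟨g.1, hgX⟩ : G')) :=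
        (Nat.card_pos_iff.mp (by omega)).1
      obtain ⟨⟨⟨y, hy⟩, hyf⟩⟩ := hex
      have hyf' : (g : G) • y = y := congrArg Subtype.val hyf
      have h2 : 2 ≤ Nat.card (fixedBy Ω (g : G)) := by
        apply two_le_card_fixedBy (a := y) (b := α) _ hyf' g.2
        rintro rfl
        exact Set.disjoint_left.mp hdisj hy hα
      have := h1 _ hcon
      omega
  have hprod := hB.ncard_block_mul_ncard_orbit_eq ⟨α, hα⟩
  have hb1 : 1 < B.ncard := (Set.one_lt_ncard (Set.toFinite B)).mpr ⟨α, hα, α', hα', hne'⟩
  have hm1 : 1 < (orbit G B).ncard := by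
    by_contra hcon
    have hpos : 0 < (orbit G B).ncard :=
      (Set.ncard_pos (Set.toFinite _)).mpr ⟨B, mem_orbit_self B⟩
    have heq : (orbit G B).ncard = 1 := by omega
    rw [heq, mul_one] at hprod
    apply hBu
    apply Set.eq_of_subset_of_ncard_le (Set.subset_univ _) _ (Set.toFinite _)
    rw [Set.ncard_univ, hprod]
  have hb2 := Nat.le_of_dvd (by omega) hb
  have hm2 := Nat.le_of_dvd (by omega) hm
  rw [← hprod, sq]
  exact Nat.mul_le_mul (by omega) (by omega)

end H62.DerIndex
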