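import Mathlib

set_option autoImplicit false

/-! Extremely primitive groups: Manning's theorem. -/

namespace H62.ExtPrim

open MulAction

variable {G Ω : Type*} [Group G] [MulAction G Ω]

theorem smul_mem_orbit_iff {H X : Type*} [Group H] [MulAction H X] (m : H) (z d : X) :
    m • z ∈ orbit H d ↔ z ∈ orbit H d := by
  constructor
  · rintro ⟨x, hx⟩
    refine ⟨m⁻¹ * x, ?_⟩
    change (m⁻¹ * x) • d = z
    rw [mul_smul, inv_smul_eq_iff]
    exact hx
  · rintro ⟨x, rfl⟩
    exact ⟨m * x, mul_smul m x d⟩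

/-- If `G_α` acts primitively on a nontrivial orbit of `ω`, then `G_{αω}` is maximal in `G_α`. -/
theorem two_pt_maximal {α ω : Ω} (hne : ∃ h ∈ stabilizer G α, h • ω ≠ ω)
    (hep : IsPreprimitive (stabilizer G α) (orbit (stabilizer G α) ω))
    (M : Subgroup G) (h1 : stabilizer G α ⊓ stabilizer G ω ≤ M) (h2 : M ≤ stabilizer G α) :
    M = stabilizer G α ⊓ stabilizer G ω ∨ M = stabilizer G α := by
  obtain ⟨h, hh, hω⟩ := hne
  let x : orbit (stabilizer G α) ω := ⟨ω, mem_orbit_self ω⟩
  have hnt : Nontrivial (orbit (stabilizer G α) ω) := by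
    refine ⟨⟨⟨h • ω, ?_⟩, x, ?_⟩⟩
    · exact ⟨⟨h, hh⟩, rfl⟩
    · intro heq
      exact hω (congrArg Subtype.val heq)
  have hco : IsCoatom (stabilizer (stabilizer G α) x) :=
    (isCoatom_stabilizer_iff_preprimitive (stabilizer G α) x).mpr hep
  have hle : stabilizer (stabilizer G α) x ≤ M.subgroupOf (stabilizer G α) := by
    intro g hg
    rw [Subgroup.mem_subgroupOf]
    apply h1
    refine ⟨g.2, ?_⟩
    have := congrArg Subtype.val (mem_stabilizer_iff.mp hg)
    exact this
  rcases (hco.le_iff.mp hle) with h | h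
  · right
    apply le_antisymm h2
    rw [Subgroup.subgroupOf_eq_top] at h
    exact h
  · left
    apply le_antisymm _ h1
    refine le_inf h2 ?_
    intro m hm
    have hm' : (⟨m, h2 hm⟩ : stabilizer G α) ∈ M.subgroupOf (stabilizer G α) := hm
    rw [h] at hm'
    exact congrArg Subtype.val (mem_stabilizer_iff.mp hm')

/-- A normal subgroup of `G_α` moving `ω` is transitive on the orbit of `ω`. -/
theorem normal_transitive {α ω : Ω}
    (hep : IsPreprimitive (stabilizer G α) (orbit (stabilizer G α) ω))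
    (K : Subgroup G) (hK : K ≤ stabilizer G α)
    (hn : stabilizer G α ≤ Subgroup.normalizer (K : Set G)) (hne : ∃ k ∈ K, k • ω ≠ ω) :
    ∀ h ∈ stabilizer G α, ∃ k ∈ K, k • ω = h • ω := by
  obtain ⟨k, hk, hkω⟩ := hne
  have hKn : (K.subgroupOf (stabilizer G α)).Normal :=
    (Subgroup.normal_subgroupOf_iff_le_normalizer hK).mpr hn
  let x : orbit (stabilizer G α) ω := ⟨ω, mem_orbit_self ω⟩
  have htr : IsPretransitive (K.subgroupOf (stabilizer G α)) (orbit (stabilizer G α) ω) := by
    apply IsQuasiPreprimitive.isPretransitive_of_normal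
    intro hfix
    have h1 : x ∈ fixedPoints (K.subgroupOf (stabilizer G α)) (orbit (stabilizer G α) ω) := by
      rw [hfix]; trivial
    have h2 := h1 ⟨⟨k, hK hk⟩, hk⟩
    exact hkω (congrArg Subtype.val h2)
  intro h hh
  obtain ⟨k', hk'⟩ := exists_smul_eq (K.subgroupOf (stabilizer G α)) x ⟨h • ω, ⟨⟨h, hh⟩, rfl⟩⟩
  exact ⟨k'.1.1, k'.2, congrArg Subtype.val hk'⟩

/-- Connectivity. -/
theorem connected [Finite G] {H : Subgroup G} (hmax : IsCoatom H) {t : G} (ht : t ∉ H)
    (S : Set G) (h1 : (1 : G) ∈ S) (hS1 : ∀ s ∈ S, ∀ h ∈ H, s * h ∈ S) (hS2 : ∀ s ∈ S, s * t ∈ S) :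
    ∀ g : G, g ∈ S := by
  let M : Subgroup G :=
    { carrier := {x | ∀ s ∈ S, s * x ∈ S}
      one_mem' := fun s hs => by rw [mul_one]; exact hs
      mul_mem' := fun {a b} ha hb s hs => by
        rw [← mul_assoc]; exact hb _ (ha _ hs)
      inv_mem' := fun {a} ha => by
        have hpow : ∀ (n : ℕ), ∀ s ∈ S, s * a ^ n ∈ S := by
          intro n
          induction n with
          | zero => intro s hs; simpa using hs
          | succ n ih => intro s hs; rw [pow_succ, ← mul_assoc]; exact ha _ (ih s hs)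
        have hinv : a⁻¹ = a ^ (orderOf a - 1) := by
          rw [inv_eq_iff_mul_eq_one, ← pow_succ', Nat.sub_add_cancel (orderOf_pos a), pow_orderOf_eq_one]
        rw [hinv]
        exact hpow _ }
  have hHM : H ≤ M := fun h hh s hs => hS1 s hs h hh
  have htM : t ∈ M := fun s hs => hS2 s hs
  have hlt : H < M := lt_of_le_of_ne hHM (fun h => ht (by rw [h]; exact htM))
  have htop := hmax.2 _ hlt
  intro g
  have : g ∈ M := by rw [htop]; trivial
  have := this 1 h1
  rwa [one_mul] at this

variable (G) in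
/-- The kernel of `G_α` on the orbit of `ω`. -/
def kerOrb (α ω : Ω) : Subgroup G where
  carrier := {g | g • α = α ∧ ∀ h ∈ stabilizer G α, g • h • ω = h • ω}
  one_mem' := ⟨one_smul _ _, fun h _ => one_smul _ _⟩
  mul_mem' := fun {a b} ha hb => ⟨by rw [mul_smul, hb.1, ha.1], fun h hh => by
    rw [mul_smul, hb.2 h hh, ha.2 h hh]⟩
  inv_mem' := fun {a} ha => ⟨by rw [inv_smul_eq_iff, ha.1], fun h hh => by
    rw [inv_smul_eq_iff, ha.2 h hh]⟩

theorem mem_kerOrb {α ω : Ω} {g : G} :
    g ∈ kerOrb G α ω ↔ g • α = α ∧ ∀ h ∈ stabilizer G α, g • h • ω = h • ω := Iff.rfl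

theorem kerOrb_le (α ω : Ω) : kerOrb G α ω ≤ stabilizer G α := fun _ hg => hg.1

theorem kerOrb_normal (α ω : Ω) :
    stabilizer G α ≤ Subgroup.normalizer (kerOrb G α ω : Set G) := by
  rw [Subgroup.le_normalizer_iff]
  intro h hh k hk
  refine ⟨?_, ?_⟩
  · have h1 : h⁻¹ • α = α := by rw [inv_smul_eq_iff]; exact hh.symm
    rw [mul_smul, mul_smul, h1, hk.1]
    exact hh
  · intro x hx
    have h1 := hk.2 (h⁻¹ * x) ((stabilizer G α).mul_mem ((stabilizer G α).inv_mem hh) hx)
    rw [mul_smul] at h1
    rw [mul_smul, mul_smul, h1, smul_inv_smul]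

theorem conj_mem_kerOrb {α ω : Ω} {g k : G} (hk : k ∈ kerOrb G α ω) :
    g * k * g⁻¹ ∈ kerOrb G (g • α) (g • ω) := by
  refine ⟨?_, ?_⟩
  · rw [mul_smul, mul_smul, inv_smul_smul, hk.1]
  · intro h hh
    have h1 : g⁻¹ * h * g ∈ stabilizer G α := by
      rw [mem_stabilizer_iff] at hh ⊢
      rw [mul_smul, mul_smul, hh, inv_smul_smul]
    have h2 := hk.2 _ h1
    rw [mul_smul, mul_smul] at h2
    rw [mul_smul, mul_smul, h2, smul_inv_smul]

theorem card_kerOrb_smul [Finite G] (α ω : Ω) (g : G) :
    Nat.card (kerOrb G (g • α) (g • ω)) = Nat.card (kerOrb G α ω) := by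
  apply Nat.card_congr
  exact
    { toFun := fun k => ⟨g⁻¹ * k.1 * g, by
        have := conj_mem_kerOrb (g := g⁻¹) k.2
        simpa using this⟩
      invFun := fun k => ⟨g * k.1 * g⁻¹, conj_mem_kerOrb k.2⟩
      left_inv := fun k => by simp [mul_assoc]
      right_inv := fun k => by simp [mul_assoc] }

/-- In a primitive group with nontrivial stabilizers, `G_α` fixes only `α`. -/
theorem exists_moves [FaithfulSMul G Ω] [IsPreprimitive G Ω] {α ω : Ω}
    (hH : stabilizer G α ≠ ⊥) (hω : ω ≠ α) : ∃ h ∈ stabilizer G α, h • ω ≠ ω := by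
  by_contra hcon
  push Not at hcon
  have : Nontrivial Ω := ⟨ω, α, hω⟩
  have hco : IsCoatom (stabilizer G α) := IsPreprimitive.isCoatom_stabilizer_of_isPreprimitive G α
  have hle : stabilizer G α ≤ stabilizer G ω := fun h hh => hcon h hh
  have hcoω : IsCoatom (stabilizer G ω) := IsPreprimitive.isCoatom_stabilizer_of_isPreprimitive G ω
  have heq : stabilizer G α = stabilizer G ω := by
    rcases (hco.le_iff.mp hle) with h | h
    · exact absurd h hcoω.1
    · exact h.symm
  obtain ⟨g, hg⟩ := exists_smul_eq G α ω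
  have hgn : g ∈ Subgroup.normalizer ((stabilizer G α : Subgroup G) : Set G) := by
    rw [Subgroup.mem_normalizer_iff]
    intro h
    have h1 : g * h * g⁻¹ ∈ stabilizer G ω ↔ h ∈ stabilizer G α := by
      rw [mem_stabilizer_iff, mem_stabilizer_iff, ← hg, mul_smul, mul_smul, inv_smul_smul]
      constructor
      · intro h; exact smul_left_cancel _ h
      · intro h; rw [h]
    rw [← heq] at h1
    exact h1.symm
  have hlt : stabilizer G α < Subgroup.normalizer ((stabilizer G α : Subgroup G) : Set G) := by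
    refine lt_of_le_of_ne Subgroup.le_normalizer ?_
    intro h
    rw [← h] at hgn
    exact hω (hg ▸ hgn)
  have htop := hco.2 _ hlt
  rw [Subgroup.normalizer_eq_top_iff] at htop
  apply hH
  rw [eq_bot_iff]
  intro h hh
  rw [Subgroup.mem_bot]
  apply FaithfulSMul.eq_of_smul_eq_smul (α := Ω)
  intro x
  obtain ⟨y, rfl⟩ := exists_smul_eq G α x
  have := htop.conj_mem h hh y⁻¹
  rw [inv_inv, mem_stabilizer_iff, mul_smul, mul_smul, inv_smul_eq_iff] at this
  rw [this, one_smul]

/-- **Manning's theorem**: in an extremely primitive group the point stabilizer is faithful on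
each of its nontrivial orbits. -/
theorem manning [Finite G] [Finite Ω] [FaithfulSMul G Ω] [IsPreprimitive G Ω]
    (hH : ∀ α : Ω, stabilizer G α ≠ ⊥)
    (hep : ∀ (α : Ω) (ω : Ω), IsPreprimitive (stabilizer G α) (orbit (stabilizer G α) ω))
    (α ω : Ω) (hω : ω ≠ α) : kerOrb G α ω = ⊥ := by
  classical
  have hnt : Nontrivial Ω := ⟨ω, α, hω⟩
  -- pick a pair with kernel of maximal order
  have hne : Nonempty {x : Ω × Ω // x.2 ≠ x.1} := ⟨⟨(α, ω), hω⟩⟩
  obtain ⟨⟨⟨a, b⟩, hab⟩, hmax⟩ := Finite.exists_max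
    (fun x : {x : Ω × Ω // x.2 ≠ x.1} => Nat.card (kerOrb G x.1.1 x.1.2))
  simp only at hmax hab
  -- it is enough that this kernel is trivial
  suffices hsuff : kerOrb G a b = ⊥ by
    have h1 := hmax ⟨(α, ω), hω⟩
    rw [hsuff, Subgroup.card_bot] at h1
    simp only at h1
    have h2 : 0 < Nat.card (kerOrb G α ω) := Nat.card_pos
    exact Subgroup.card_eq_one.mp (by omega)
  by_contra hK
  set K := kerOrb G a b with hKdef
  have hco : IsCoatom (stabilizer G a) := IsPreprimitive.isCoatom_stabilizer_of_isPreprimitive G a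
  obtain ⟨t, ht⟩ := exists_smul_eq G a b
  have htn : t ∉ stabilizer G a := by
    intro h
    rw [mem_stabilizer_iff, ht] at h
    exact hab h
  -- find g with g • a fixed by K and some point of the suborbit of g • a moved
  have hex : ∃ g : G, (∀ k ∈ K, k • (g • a) = g • a) ∧
      ∃ h ∈ stabilizer G a, ¬ ∀ k ∈ K, k • (g • h • b) = g • h • b := by
    by_contra hcon
    push Not at hcon
    apply hK
    rw [eq_bot_iff]
    intro k hk
    rw [Subgroup.mem_bot]
    have hall := connected hco htn {g : G | ∀ k ∈ K, k • (g • a) = g • a} (by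
      intro k hk
      rw [one_smul]; exact hk.1) (by
      intro s hs h hh k hk
      rw [mul_smul, mem_stabilizer_iff.mp hh]
      exact hs k hk) (by
      intro s hs k hk
      rw [mul_smul, ht]
      have := hcon s hs 1 (Subgroup.one_mem _) k hk
      rwa [one_smul] at this)
    apply FaithfulSMul.eq_of_smul_eq_smul (α := Ω)
    intro x
    obtain ⟨y, rfl⟩ := exists_smul_eq G a x
    rw [hall y k hk, one_smul]
  obtain ⟨g, hg, h, hh, hmove⟩ := hex
  push Not at hmove
  set c := g • a with hc
  set d := g • h • b with hd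
  have hca : c ≠ a := by
    intro hca
    obtain ⟨k, hk, hkd⟩ := hmove
    apply hkd
    have h1 : g * h ∈ stabilizer G a := by
      rw [mem_stabilizer_iff, mul_smul, mem_stabilizer_iff.mp hh]
      exact hca
    have := hk.2 (g * h) h1
    rw [mul_smul] at this
    exact this
  have hda : d ≠ a := by
    intro hda
    obtain ⟨k, hk, hkd⟩ := hmove
    rw [hda] at hkd
    exact hkd hk.1
  -- K is transitive on the G_a-orbit of d
  have hKtr := normal_transitive (hep a d) K (kerOrb_le a b) (kerOrb_normal a b) hmove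
  -- the kernel of G_c on the orbit of g • b
  set L := kerOrb G c (g • b) with hL
  have hLcard : Nat.card L = Nat.card K := card_kerOrb_smul a b g
  -- the orbit of d under G_a
  have hsub : ∀ x ∈ stabilizer G a, ∃ y ∈ stabilizer G c, x • d = y • (g • b) := by
    intro x hx
    obtain ⟨k, hk, hkd⟩ := hKtr x hx
    refine ⟨k * (g * h * g⁻¹), ?_, ?_⟩
    · apply Subgroup.mul_mem
      · exact hg k hk
      · rw [mem_stabilizer_iff, hc, mul_smul, inv_smul_smul, mul_smul, mem_stabilizer_iff.mp hh]
    · rw [← hkd, mul_smul, mul_smul, mul_smul, inv_smul_smul]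
  -- L fixes every point of the G_a-orbit of d
  have hLfix : ∀ l ∈ L, ∀ x ∈ stabilizer G a, l • x • d = x • d := by
    intro l hl x hx
    obtain ⟨y, hy, hxy⟩ := hsub x hx
    rw [hxy]
    exact hl.2 y hy
  -- the setwise stabilizer of that orbit inside G_c
  let M : Subgroup G := 
    { carrier := {m | m • c = c ∧ ∀ z, z ∈ orbit (stabilizer G a) d ↔ m • z ∈ orbit (stabilizer G a) d}
      one_mem' := ⟨one_smul _ _, fun z => by rw [one_smul]⟩
      mul_mem' := fun {x y} hx hy => ⟨by rw [mul_smul, hy.1, hx.1], fun z => by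
        rw [mul_smul, hy.2 z, hx.2 (y • z)]⟩
      inv_mem' := fun {x} hx => ⟨by rw [inv_smul_eq_iff, hx.1], fun z => by
        rw [hx.2 (x⁻¹ • z), smul_inv_smul]⟩ }
  have hM1 : stabilizer G c ⊓ stabilizer G a ≤ M := by
    intro m hm
    exact ⟨hm.1, fun z => (smul_mem_orbit_iff (⟨m, hm.2⟩ : stabilizer G a) z d).symm⟩
  have hM2 : M ≤ stabilizer G c := fun m hm => hm.1
  have hMor := two_pt_maximal (exists_moves (hH c) hca.symm) (hep c a) M hM1 hM2
  have hLM : L ≤ M := by
    intro l hl
    refine ⟨hl.1, fun z => ?_⟩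
    have hfix : ∀ z ∈ orbit (stabilizer G a) d, ∀ l ∈ L, l • z = z := by
      rintro _ ⟨x, rfl⟩ l hl
      exact hLfix l hl x.1 x.2
    constructor
    · intro hz
      rw [hfix z hz l hl]; exact hz
    · intro hz
      have := hfix _ hz l⁻¹ (L.inv_mem hl)
      rw [inv_smul_smul] at this
      rw [this]; exact hz
  -- the case M = G_c is impossible
  have hcoc : IsCoatom (stabilizer G c) := IsPreprimitive.isCoatom_stabilizer_of_isPreprimitive G c
  have hne : ¬ stabilizer G a ≤ stabilizer G c := by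
    intro hle
    obtain ⟨h', hh', hmv⟩ := exists_moves (hH a) hca
    exact hmv (hle hh')
  have htop : stabilizer G c ⊔ stabilizer G a = ⊤ := by
    apply hcoc.2
    refine lt_of_le_of_ne le_sup_left ?_
    intro h
    apply hne
    rw [h]
    exact le_sup_right
  have hMeq : M = stabilizer G c ⊓ stabilizer G a := by
    rcases hMor with h | h
    · exact h
    · exfalso
      let M' : Subgroup G := 
        { carrier := {m | ∀ z, z ∈ orbit (stabilizer G a) d ↔ m • z ∈ orbit (stabilizer G a) d}
          one_mem' := fun z => by rw [one_smul]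
          mul_mem' := fun {x y} hx hy z => by
            rw [mul_smul, hy z, hx (y • z)]
          inv_mem' := fun {x} hx z => by
            rw [hx (x⁻¹ • z), smul_inv_smul] }
      have h1 : stabilizer G c ⊔ stabilizer G a ≤ M' := by
        apply sup_le
        · rw [← h]
          exact fun m hm => hm.2
        · intro m hm z
          exact (smul_mem_orbit_iff (⟨m, hm⟩ : stabilizer G a) z d).symm
      rw [htop] at h1
      obtain ⟨y, hy⟩ := exists_smul_eq G d a
      have h2 := (h1 (show y ∈ (⊤ : Subgroup G) from trivial) d).mp (mem_orbit_self d)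
      rw [hy] at h2
      obtain ⟨x, hx⟩ := h2
      have hx' : (x : G) • d = a := hx
      have : d = a := by
        have h3 : (x : G) • a = a := x.2
        exact smul_left_cancel (x : G) (hx'.trans h3.symm)
      exact hda this
  have hLa : L ≤ stabilizer G a := by
    refine hLM.trans ?_
    rw [hMeq]
    exact inf_le_right
  have hLle : L ≤ kerOrb G a d := fun l hl => ⟨hLa hl, fun x hx => hLfix l hl x hx⟩
  have hLeq : L = kerOrb G a d := by
    apply Subgroup.eq_of_le_of_card_ge hLle
    rw [hLcard]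
    exact hmax ⟨(a, d), hda⟩
  have hn1 : stabilizer G c ≤ Subgroup.normalizer (L : Set G) := kerOrb_normal c (g • b)
  have hn2 : stabilizer G a ≤ Subgroup.normalizer (L : Set G) := by
    rw [hLeq]; exact kerOrb_normal a d
  have hn3 : Subgroup.normalizer (L : Set G) = ⊤ := by
    rw [eq_top_iff, ← htop]
    exact sup_le hn1 hn2
  rw [Subgroup.normalizer_eq_top_iff] at hn3
  have hLbot : L = ⊥ := by
    rw [eq_bot_iff]
    intro l hl
    rw [Subgroup.mem_bot]
    apply FaithfulSMul.eq_of_smul_eq_smul (α := Ω)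
    intro x
    obtain ⟨y, rfl⟩ := exists_smul_eq G a x
    have := hLa (hn3.conj_mem l hl y⁻¹)
    rw [inv_inv, mem_stabilizer_iff, mul_smul, mul_smul, inv_smul_eq_iff] at this
    rw [this, one_smul]
  apply hK
  rw [hLbot, Subgroup.card_bot] at hLcard
  exact Subgroup.card_eq_one.mp hLcard.symm

end H62.ExtPrim
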