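import Cfsg.Agent.Lib.H62.EPMain2
import Cfsg.Agent.Lib.H62.PrimGroup
import Cfsg.Agent.S3495
import Cfsg.Agent.S3494

set_option autoImplicit false
set_option linter.unusedSectionVars false

/-! Insoluble extremely primitive groups of affine type, assuming the odd order theorem. -/

namespace H62.EPFT

open MulAction

variable {G : Type*} [Group G] [Finite G] {Ω : Type*} [Fintype Ω] [MulAction G Ω] [FaithfulSMul G Ω]

/-- the conjugation action of a point stabilizer -/
@[reducible] def conjAct (N : Subgroup G) [hN : N.Normal] (α : Ω) : DistribMulAction (stabilizer G α) (Additive N) where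
  smul h v := Additive.ofMul ⟨(h : G) * (Additive.toMul v : N) * (h : G)⁻¹, hN.conj_mem _ (Additive.toMul v : N).2 _⟩
  one_smul v := by
    apply Additive.toMul.injective
    apply Subtype.ext
    show (1 : G) * (Additive.toMul v : N) * (1 : G)⁻¹ = (Additive.toMul v : N)
    simp
  mul_smul a b v := by
    apply Additive.toMul.injective
    apply Subtype.ext
    show ((a : G) * b) * (Additive.toMul v : N) * ((a : G) * b)⁻¹ = (a : G) * ((b : G) * (Additive.toMul v : N) * (b : G)⁻¹) * (a : G)⁻¹
    group
  smul_zero a := by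
    apply Additive.toMul.injective
    apply Subtype.ext
    show (a : G) * (1 : G) * (a : G)⁻¹ = 1
    simp
  smul_add a v w := by
    apply Additive.toMul.injective
    apply Subtype.ext
    show (a : G) * ((Additive.toMul v : N) * (Additive.toMul w : N) : G) * (a : G)⁻¹ =
      ((a : G) * (Additive.toMul v : N) * (a : G)⁻¹) * ((a : G) * (Additive.toMul w : N) * (a : G)⁻¹)
    group

theorem core (hFT : ∀ K : Subgroup G, Odd (Nat.card K) → Group.IsSolvable K) (p d : ℕ) (hp : p.Prime)
    (hcard : Fintype.card Ω = p ^ d) (hsol : ¬ Group.IsSolvable G)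
    (N : Subgroup G) [hNn : N.Normal] (hN : N ≠ ⊥) (hNc : IsMulCommutative N) (hNreg : ∀ ω : Ω, MulAction.stabilizer N ω = ⊥)
    (hprim : MulAction.IsPreprimitive G Ω) (hH : ∀ α : Ω, MulAction.stabilizer G α ≠ ⊥) (hep : ∀ (α : Ω) (ω : Ω), MulAction.IsPreprimitive (MulAction.stabilizer G α) (MulAction.orbit (MulAction.stabilizer G α) ω)) (α : Ω) :
    p = 2 ∧ ∃ T : Subgroup (MulAction.stabilizer G α), T.Normal ∧ IsSimpleGroup T ∧ ¬ IsMulCommutative T ∧ Subgroup.centralizer (T : Set (MulAction.stabilizer G α)) = ⊥ := by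
  classical
  have hpf : Fact p.Prime := ⟨hp⟩
  have hNtr : IsPretransitive N Ω := H62.PrimGroup.normal_transitive N hN
  have hcomm : ∀ a ∈ N, ∀ b ∈ N, a * b = b * a := fun a ha b hb =>
    congrArg Subtype.val (hNc.is_comm.comm ⟨a, ha⟩ ⟨b, hb⟩)
  have hreg : ∀ n ∈ N, ∀ n' ∈ N, n • α = n' • α → n = n' := by
    intro n hn n' hn' h
    have h1 : (⟨n'⁻¹ * n, N.mul_mem (N.inv_mem hn') hn⟩ : N) ∈ MulAction.stabilizer N α := by
      rw [MulAction.mem_stabilizer_iff]
      change (n'⁻¹ * n) • α = α
      rw [mul_smul, h, inv_smul_smul]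
    rw [hNreg, Subgroup.mem_bot] at h1
    have h2 : n'⁻¹ * n = 1 := congrArg Subtype.val h1
    exact (inv_mul_eq_one.mp h2).symm
  have hNcard : Nat.card N = p ^ d := by
    rw [← hcard, ← Nat.card_eq_fintype_card]
    apply Nat.card_congr
    apply Equiv.ofBijective (fun n : N => (n : G) • α)
    constructor
    · intro a b hab
      exact Subtype.ext (hreg a a.2 b b.2 hab)
    · intro y
      obtain ⟨n, hn⟩ := exists_smul_eq N α y
      exact ⟨n, hn⟩
  -- the exponent
  have hNp : ∀ n ∈ N, n ^ p = 1 := by
    let P : Subgroup G :=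
      { carrier := {n | n ∈ N ∧ n ^ p = 1}
        one_mem' := ⟨N.one_mem, one_pow _⟩
        mul_mem' := fun {a b} ha hb => ⟨N.mul_mem ha.1 hb.1, by
          have : Commute a b := hcomm a ha.1 b hb.1
          rw [this.mul_pow, ha.2, hb.2, one_mul]⟩
        inv_mem' := fun {a} ha => ⟨N.inv_mem ha.1, by rw [inv_pow, ha.2, inv_one]⟩ }
    have hPn : P.Normal := ⟨fun n hn g => ⟨hNn.conj_mem n hn.1 g, by rw [conj_pow, hn.2]; simp⟩⟩
    have hP0 : P ≠ ⊥ := by
      have hpd : p ∣ Nat.card N := by
        rw [hNcard]
        apply dvd_pow_self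
        rintro rfl
        rw [pow_zero] at hNcard
        exact hN (Subgroup.card_eq_one.mp hNcard)
      obtain ⟨x, hx⟩ := exists_prime_orderOf_dvd_card' (G := N) p hpd
      intro h
      have h1 : (x : G) ∈ P := ⟨x.2, by
        have := pow_orderOf_eq_one x
        rw [hx] at this
        exact congrArg Subtype.val this⟩
      rw [h, Subgroup.mem_bot] at h1
      have h2 : x = 1 := Subtype.ext h1
      rw [h2, orderOf_one] at hx
      exact hp.one_lt.ne hx
    have hPtr : IsPretransitive P Ω := H62.PrimGroup.normal_transitive P hP0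
    intro n hn
    obtain ⟨m, hm⟩ := exists_smul_eq P α (n • α)
    have h1 : (m : G) = n := hreg m m.2.1 n hn hm
    rw [← h1]; exact m.2.2
  have key := fun M hM hMle hMn => Cfsg.Agent.S3495.result hprim hH hep N hNc p hp hNp hNtr hNreg α M hM hMle hMn
  set H := stabilizer G α with hHdef
  have hNsol : Group.IsSolvable N := Group.isSolvable_of_comm (fun a b => Subtype.ext (hcomm a a.2 b b.2))
  have hGdec : ∀ g : G, ∃ n ∈ N, ∃ h ∈ H, g = n * h := by
    intro g
    obtain ⟨n, hn⟩ := exists_smul_eq N α (g • α)
    refine ⟨n, n.2, (n : G)⁻¹ * g, ?_, by group⟩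
    rw [hHdef, mem_stabilizer_iff, mul_smul, inv_smul_eq_iff]
    exact hn.symm
  have hHnsol : ¬ Group.IsSolvable H := by
    intro hHs
    apply hsol
    have hQ : Group.IsSolvable (G ⧸ N) := by
      apply Group.isSolvable_of_surjective (f := (QuotientGroup.mk' N).comp H.subtype)
      intro x
      obtain ⟨g, rfl⟩ := QuotientGroup.mk_surjective x
      obtain ⟨n, hn, h, hh, rfl⟩ := hGdec g
      refine ⟨⟨h, hh⟩, ?_⟩
      show ((h : G) : G ⧸ N) = ((n * h : G) : G ⧸ N)
      rw [QuotientGroup.mk_mul, (QuotientGroup.eq_one_iff n).mpr hn, one_mul]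
    exact Group.isSolvable_of_ker_le_range N.subtype (QuotientGroup.mk' N)
      (by rw [QuotientGroup.ker_mk', Subgroup.range_subtype])
  have hmem : ∀ h ∈ H, h • α = α := fun h hh => hh
  have hinvα : ∀ h ∈ H, h⁻¹ • α = α := fun h hh => by rw [inv_smul_eq_iff]; exact (hmem h hh).symm
  have hact : ∀ h ∈ H, ∀ n : G, h • n • α = (h * n * h⁻¹) • α := by
    intro h hh n
    rw [mul_smul, mul_smul, hinvα h hh]
  have hfaith : ∀ h ∈ H, (∀ n ∈ N, h * n * h⁻¹ = n) → h = 1 := by
    intro h hh hn
    apply H62.PrimGroup.eq_one_of_centralizes N (x := α) _ (hmem h hh)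
    intro n hn'
    have := hn n hn'
    rw [mul_inv_eq_iff_eq_mul] at this
    exact this
  have hHnt : Nontrivial H := (Subgroup.nontrivial_iff_ne_bot H).mpr (hH α)
  -- maximality
  have hmax : ∀ n ∈ N, n ≠ 1 → ∀ M : Subgroup G, H ⊓ stabilizer G (n • α) ≤ M → M ≤ H →
      M = H ⊓ stabilizer G (n • α) ∨ M = H := by
    intro n hn hn1 M h1 h2
    have hω : n • α ≠ α := by
      intro h
      apply hn1
      apply hreg n hn 1 N.one_mem
      rw [one_smul]; exact h
    exact H62.ExtPrim.two_pt_maximal (H62.ExtPrim.exists_moves (hH α) hω) (hep α (n • α)) M h1 h2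
  have hproper : ∀ n ∈ N, n ≠ 1 → ∃ h ∈ H, h • n • α ≠ n • α := by
    intro n hn hn1
    have hω : n • α ≠ α := by
      intro h
      apply hn1
      apply hreg n hn 1 N.one_mem
      rw [one_smul]; exact h
    exact H62.ExtPrim.exists_moves (hH α) hω
  -- the characteristic
  have hp2 : p = 2 := by
    by_contra hp2
    have hNodd : Odd (Nat.card N) := by
      rw [hNcard]
      exact (hp.odd_of_ne_two hp2).pow
    apply hHnsol
    apply hFT H
    by_contra heven
    rw [Nat.not_odd_iff_even, even_iff_two_dvd] at heven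
    have : Fact (Nat.Prime 2) := ⟨Nat.prime_two⟩
    obtain ⟨t, ht⟩ := exists_prime_orderOf_dvd_card' (G := H) 2 heven
    have ht2 : (t : G) * t = 1 := by
      have := pow_orderOf_eq_one t
      rw [ht, pow_two] at this
      exact congrArg Subtype.val this
    have htinv : (t : G)⁻¹ = t := inv_eq_of_mul_eq_one_right ht2
    have ht1 : (t : G) ≠ 1 := by
      intro h
      have : t = 1 := Subtype.ext h
      rw [this, orderOf_one] at ht
      omega
    obtain ⟨u, hu, htu⟩ : ∃ u ∈ N, (t : G) * u * (t : G)⁻¹ ≠ u := by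
      by_contra hcon
      push Not at hcon
      exact ht1 (hfaith t t.2 hcon)
    -- an inverted element
    set v := u * ((t : G) * u * (t : G)⁻¹)⁻¹ with hv
    have hu' : (t : G) * u * (t : G)⁻¹ ∈ N := hNn.conj_mem u hu t
    have hvN : v ∈ N := N.mul_mem hu (N.inv_mem hu')
    have hv1 : v ≠ 1 := by
      intro h
      rw [hv, mul_inv_eq_one] at h
      exact htu h.symm
    have htv : (t : G) * v * (t : G)⁻¹ = v⁻¹ := by
      have e1 : (t : G) * v * (t : G)⁻¹ = ((t : G) * u * (t : G)⁻¹) * ((t * t : G) * u * (t * t : G)⁻¹)⁻¹ := by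
        rw [hv]; group
      rw [e1, ht2, hv, mul_inv_rev, inv_inv]
      simp
    -- the stabilizer of the pair
    have hvv : v ≠ v⁻¹ := by
      intro h
      have h1 : v ^ 2 = 1 := by rw [pow_two]; nth_rw 2 [h]; rw [mul_inv_cancel]
      have h2 : orderOf v ∣ 2 := orderOf_dvd_of_pow_eq_one h1
      have h3 : orderOf v ∣ Nat.card N := by
        rw [← Subgroup.orderOf_mk v hvN]
        exact orderOf_dvd_natCard _
      have h4 : orderOf v ∣ 1 := by
        have hc : Nat.Coprime 2 (Nat.card N) := (Nat.coprime_two_left).mpr hNodd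
        have := Nat.dvd_gcd h2 h3
        rwa [hc] at this
      exact hv1 (orderOf_eq_one_iff.mp (Nat.dvd_one.mp h4))
    let X : Subgroup G :=
      { carrier := {h | h ∈ H ∧ (h * v * h⁻¹ = v ∨ h * v * h⁻¹ = v⁻¹)}
        one_mem' := ⟨H.one_mem, Or.inl (by simp)⟩
        mul_mem' := by
          rintro a b ⟨ha, ha'⟩ ⟨hb, hb'⟩
          refine ⟨H.mul_mem ha hb, ?_⟩
          have e : a * b * v * (a * b)⁻¹ = a * (b * v * b⁻¹) * a⁻¹ := by group
          rw [e]
          rcases hb' with h | h
          · rw [h]; exact ha'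
          · rw [h]
            have e2 : a * v⁻¹ * a⁻¹ = (a * v * a⁻¹)⁻¹ := by group
            rw [e2]
            rcases ha' with h' | h'
            · rw [h']; exact Or.inr rfl
            · rw [h', inv_inv]; exact Or.inl rfl
        inv_mem' := by
          rintro a ⟨ha, ha'⟩
          refine ⟨H.inv_mem ha, ?_⟩
          rw [inv_inv]
          rcases ha' with h | h
          · left
            have h6 : a⁻¹ * v * a = a⁻¹ * (a * v * a⁻¹) * a := by rw [h]
            rw [h6]; group
          · right
            have h5 : a * v⁻¹ * a⁻¹ = v := by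
              have e2 : a * v⁻¹ * a⁻¹ = (a * v * a⁻¹)⁻¹ := by group
              rw [e2, h, inv_inv]
            have h6 : a⁻¹ * v * a = a⁻¹ * (a * v⁻¹ * a⁻¹) * a := by rw [h5]
            rw [h6]; group }
    have hX1 : H ⊓ stabilizer G (v • α) ≤ X := by
      rintro h ⟨h1, h2⟩
      refine ⟨h1, Or.inl ?_⟩
      apply hreg _ (hNn.conj_mem v hvN h) v hvN
      rw [← hact h h1]; exact h2
    have hX2 : X ≤ H := fun h hh => hh.1
    rcases hmax v hvN hv1 X hX1 hX2 with h | h
    · have h1 : (t : G) ∈ X := ⟨t.2, Or.inr htv⟩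
      rw [h] at h1
      have h2 : (t : G) • v • α = v • α := h1.2
      rw [hact t t.2, htv] at h2
      exact hvv (hreg _ (N.inv_mem hvN) v hvN h2).symm
    · -- `H` has order at most two
      apply hHnsol
      apply Group.isSolvable_of_comm
      have hC : ∀ a ∈ H, a * v * a⁻¹ = v → a = 1 := by
        intro a ha hav
        have h1 := Cfsg.Agent.S3494.result hprim hH hep α (v • α) (by
          intro h
          apply hv1
          apply hreg v hvN 1 N.one_mem
          rw [one_smul]; exact h) ⟨a, ha⟩ (by
          rintro _ ⟨b, rfl⟩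
          show a • (b : G) • v • α = (b : G) • v • α
          have hb : (b : G) ∈ X := by rw [h]; exact b.2
          have h2 : (b : G) • v • α = v • α ∨ (b : G) • v • α = v⁻¹ • α := by
            rw [hact b b.2]
            rcases hb.2 with h3 | h3
            · rw [h3]; exact Or.inl rfl
            · rw [h3]; exact Or.inr rfl
          rcases h2 with h2 | h2
          · rw [h2, hact a ha, hav]
          · rw [h2, hact a ha]
            have e2 : a * v⁻¹ * a⁻¹ = (a * v * a⁻¹)⁻¹ := by group
            rw [e2, hav])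
        exact congrArg Subtype.val h1
      have hT : ∀ a ∈ H, a = 1 ∨ a = t := by
        intro a ha
        have hb : a ∈ X := by rw [h]; exact ha
        rcases hb.2 with h3 | h3
        · exact Or.inl (hC a ha h3)
        · right
          have h4 : (t : G) * a = 1 := by
            apply hC _ (H.mul_mem t.2 ha)
            have e : (t : G) * a * v * ((t : G) * a)⁻¹ = t * (a * v * a⁻¹) * (t : G)⁻¹ := by group
            rw [e, h3]
            have e2 : (t : G) * v⁻¹ * (t : G)⁻¹ = (t * v * (t : G)⁻¹)⁻¹ := by group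
            rw [e2, htv, inv_inv]
          rw [← htinv]
          exact (inv_eq_of_mul_eq_one_right h4).symm
      intro a b
      apply Subtype.ext
      rcases hT a a.2 with h5 | h5 <;> rcases hT b b.2 with h6 | h6 <;>
        rw [Subgroup.coe_mul, Subgroup.coe_mul, h5, h6] <;> simp
  refine ⟨hp2, ?_⟩
  -- the second part
  let _ : AddCommGroup (Additive N) :=
    { (inferInstance : AddGroup (Additive N)) with
      add_comm := fun a b => by
        apply Additive.toMul.injective
        exact Subtype.ext (hcomm _ (Additive.toMul a : N).2 _ (Additive.toMul b : N).2) }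
  let _ : DistribMulAction H (Additive N) := conjAct N α
  have hsm : ∀ (h : H) (v : Additive N), ((Additive.toMul (h • v) : N) : G) = h * (Additive.toMul v : N) * (h : G)⁻¹ :=
    fun _ _ => rfl
  have hfin : Finite (Additive N) := inferInstanceAs (Finite N)
  have hntV : Nontrivial (Additive N) := by
    have : Nontrivial N := (Subgroup.nontrivial_iff_ne_bot N).mpr hN
    exact inferInstanceAs (Nontrivial (Additive N))
  have hcardV : Nat.card (Additive N) = 2 ^ d := by
    rw [← hp2, ← hNcard]; rfl
  have hKmap : ∀ K : Subgroup H, K.Normal → K ≠ ⊥ → (K.map H.subtype ≠ ⊥ ∧ K.map H.subtype ≤ H ∧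
      H ≤ Subgroup.normalizer ((K.map H.subtype : Subgroup G) : Set G)) := by
    intro K hK hK0
    refine ⟨?_, Subgroup.map_subtype_le K, ?_⟩
    · intro h
      exact hK0 ((Subgroup.map_eq_bot_iff_of_injective K H.subtype_injective).mp h)
    · intro h hh
      rw [Subgroup.mem_normalizer_iff]
      intro x
      constructor
      · rintro ⟨k, hk, rfl⟩
        exact ⟨⟨h, hh⟩ * k * ⟨h, hh⟩⁻¹, hK.conj_mem k hk _, rfl⟩
      · rintro ⟨k, hk, hkx⟩
        refine ⟨⟨h, hh⟩⁻¹ * k * ⟨h, hh⟩⁻¹⁻¹, hK.conj_mem k hk _, ?_⟩
        show h⁻¹ * (k : G) * h⁻¹⁻¹ = x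
        have : (k : G) = h * x * h⁻¹ := hkx
        rw [this]; group
  have hyp : H62.EPMain.Hyp H (Additive N) := by
    refine ⟨?_, ?_, ?_, ?_, ?_, hHnsol, ?_⟩
    · intro h hv
      apply Subtype.ext
      apply hfaith h h.2
      intro n hn
      have := hv (Additive.ofMul ⟨n, hn⟩)
      exact congrArg (fun x : Additive N => ((Additive.toMul x : N) : G)) this
    · intro v
      apply Additive.toMul.injective
      apply Subtype.ext
      show ((Additive.toMul v : N) : G) * (Additive.toMul v : N) = 1
      have := hNp _ (Additive.toMul v : N).2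
      rwa [hp2, pow_two] at this
    · intro K hK hK0 S hS
      obtain ⟨k1, k2, k3⟩ := hKmap K hK hK0
      have h1 := (key _ k1 k2 k3).2 ((AddSubgroup.toSubgroup' S).map N.subtype) (Subgroup.map_subtype_le _) (by
        have hgen : ∀ k ∈ K, ∀ x : G, x ∈ (AddSubgroup.toSubgroup' S).map N.subtype →
            (k : G) * x * (k : G)⁻¹ ∈ (AddSubgroup.toSubgroup' S).map N.subtype := by
          rintro k hk _ ⟨n, hn, rfl⟩
          exact ⟨Additive.toMul (k • Additive.ofMul n), hS k hk _ hn, rfl⟩
        rintro _ ⟨k, hk, rfl⟩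
        rw [Subgroup.mem_normalizer_iff]
        intro x
        constructor
        · exact hgen k hk x
        · intro hx
          have := hgen k⁻¹ (K.inv_mem hk) _ hx
          have e : ((k⁻¹ : H) : G) * (H.subtype k * x * (H.subtype k)⁻¹) * ((k⁻¹ : H) : G)⁻¹ = x := by
            show (k : G)⁻¹ * ((k : G) * x * (k : G)⁻¹) * (k : G)⁻¹⁻¹ = x
            group
          rwa [e] at this)
      rcases h1 with h1 | h1
      · left
        rw [eq_bot_iff]
        intro v hv
        have h2 : ((Additive.toMul v : N) : G) ∈ (AddSubgroup.toSubgroup' S).map N.subtype := ⟨Additive.toMul v, hv, rfl⟩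
        rw [h1, Subgroup.mem_bot] at h2
        exact Additive.toMul.injective (Subtype.ext h2)
      · right
        rw [eq_top_iff]
        intro v _
        have h2 : ((Additive.toMul v : N) : G) ∈ (AddSubgroup.toSubgroup' S).map N.subtype := by
          rw [h1]; exact (Additive.toMul v : N).2
        obtain ⟨n, hn, hnv⟩ := h2
        have h3 : n = Additive.toMul v := Subtype.ext hnv
        rw [h3] at hn
        exact hn
    · intro K hK hK0 h v
      obtain ⟨k1, k2, k3⟩ := hKmap K hK hK0
      have h1 := (key _ k1 k2 k3).1 ((Additive.toMul v : N) • α)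
      have h2 : (h : G) • (Additive.toMul v : N) • α ∈ orbit H ((Additive.toMul v : N) • α) := ⟨h, rfl⟩
      rw [← h1] at h2
      obtain ⟨⟨_, k, hk, rfl⟩, hkv⟩ := h2
      refine ⟨k, hk, ?_⟩
      apply Additive.toMul.injective
      apply Subtype.ext
      rw [hsm, hsm]
      apply hreg _ (hNn.conj_mem _ (Additive.toMul v : N).2 _) _ (hNn.conj_mem _ (Additive.toMul v : N).2 _)
      rw [← hact k k.2, ← hact h h.2]
      exact hkv
    · intro v hv
      have hvN := (Additive.toMul v : N).2
      have hv1 : ((Additive.toMul v : N) : G) ≠ 1 := by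
        intro h
        apply hv
        exact Additive.toMul.injective (Subtype.ext h)
      have hstab : ∀ h : H, h ∈ stabilizer H v ↔ (h : G) ∈ stabilizer G (((Additive.toMul v : N) : G) • α) := by
        intro h
        rw [mem_stabilizer_iff, mem_stabilizer_iff, hact h h.2]
        constructor
        · intro h1
          have h2 := congrArg (fun x : Additive N => ((Additive.toMul x : N) : G)) h1
          rw [hsm] at h2
          rw [h2]
        · intro h1
          apply Additive.toMul.injective
          apply Subtype.ext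
          rw [hsm]
          exact hreg _ (hNn.conj_mem _ hvN _) _ hvN h1
      constructor
      · intro htop
        obtain ⟨h, hh, hne⟩ := hproper _ hvN hv1
        apply hne
        have : (⟨h, hh⟩ : H) ∈ stabilizer H v := by rw [htop]; trivial
        exact (hstab _).mp this
      · intro M hM
        have h1 := hmax _ hvN hv1 (M.map H.subtype) (by
          rintro x ⟨hx, hx'⟩
          exact ⟨⟨x, hx⟩, hM.le ((hstab ⟨x, hx⟩).mpr hx'), rfl⟩) (Subgroup.map_subtype_le M)
        rcases h1 with h1 | h1
        · exfalso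
          apply hM.not_ge
          intro m hm
          rw [hstab]
          have : (m : G) ∈ M.map H.subtype := ⟨m, hm, rfl⟩
          rw [h1] at this
          exact this.2
        · apply Subgroup.map_injective H.subtype_injective
          rw [h1, ← MonoidHom.range_eq_map, Subgroup.range_subtype]
    · intro K hK
      have h1 : Odd (Nat.card (K.map H.subtype)) := by
        rw [Nat.card_congr (Subgroup.equivMapOfInjective K H.subtype H.subtype_injective).toEquiv.symm]
        exact hK
      have h2 := hFT _ h1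
      exact Group.isSolvable_of_isSolvable_injective
        (f := (Subgroup.equivMapOfInjective K H.subtype H.subtype_injective).toMonoidHom) (MulEquiv.injective _)
  exact H62.EPMain.main hyp hcardV hntV

end H62.EPFT
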