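import Mathlib
import Cfsg.Agent.Lib.H62.NseC
import Cfsg.Agent.S3043

/-! A group with the same order and the same numbers of elements as `PGL₂(q)`: identification. -/

set_option autoImplicit false

namespace H62.Nse

open Subgroup

theorem map_cen {A B : Type*} [Group A] [Group B] (e : A ≃* B) :
    (Subgroup.center A).map e.toMonoidHom = Subgroup.center B := by
  ext x
  rw [mem_map, mem_center_iff]
  constructor
  · rintro ⟨a, ha, rfl⟩ g
    rw [mem_center_iff] at ha
    have h1 := congrArg e (ha (e.symm g))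
    rw [map_mul, map_mul, e.apply_symm_apply] at h1
    exact h1
  · intro hx
    refine ⟨e.symm x, ?_, e.apply_symm_apply x⟩
    rw [mem_center_iff]
    intro g
    apply e.injective
    rw [map_mul, map_mul, e.apply_symm_apply]
    exact hx (e g)

/-- `PGL₂` of fields of the same order -/
theorem pgl_congr {F : Type*} [Field F] [Fintype F] {F' : Type*} [Field F'] [Fintype F']
    (h : Fintype.card F = Fintype.card F') :
    Nonempty ((GL (Fin 2) F ⧸ Subgroup.center (GL (Fin 2) F)) ≃* (GL (Fin 2) F' ⧸ Subgroup.center (GL (Fin 2) F'))) := by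
  let e : F ≃+* F' := FiniteField.ringEquivOfCardEq h
  let f : GL (Fin 2) F ≃* GL (Fin 2) F' := Units.mapEquiv (e.mapMatrix).toMulEquiv
  exact ⟨QuotientGroup.congr _ _ f (map_cen f)⟩

theorem Cfg.main {G : Type*} [Group G] [Finite G] {p q e : ℕ} {K : Subgroup G} {z : G} (h : Cfg G p q e K z) :
    ∃ (F : Type) (_ : Field F) (_ : Fintype F), Fintype.card F = q ∧
      Nonempty (G ≃* (GL (Fin 2) F ⧸ Subgroup.center (GL (Fin 2) F))) := by
  obtain ⟨t, ht, htN⟩ := h.exists_t
  have hq3 := h.h3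
  have hqq : q ^ 2 = q * q := pow_two q
  have hK1 : K ≠ ⊥ := by
    intro h0
    have := h.cardK
    rw [h0, Subgroup.card_bot] at this
    omega
  have hidx : K.index = q ^ 2 - 1 := by
    have h1 := K.card_mul_index
    rw [h.cardK, h.card] at h1
    exact Nat.eq_of_mul_eq_mul_left (by omega) h1
  rcases Cfsg.Agent.S3043.result K hK1 h.ti t ht htN (h.fac ht htN)
    (fun x hx hx1 => h.card_cent_odd (h.ordK hx hx1)) with h1 | h1 | h1 | h1 | h1
  · exfalso
    have h2 : {c : G | orderOf c = p} ⊆ (K : Set G) := by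
      intro c hc
      obtain ⟨g, rfl⟩ := h.conj hc
      exact h1.conj_mem z h.zK g
    have h3 := Set.ncard_le_ncard h2 (Set.toFinite _)
    have e1 : ({c : G | orderOf c = p}).ncard = q ^ 2 - 1 := h.pel
    have e2 : (K : Set G).ncard = q := h.cardK
    rw [e1, e2] at h3
    have : q + 1 < q ^ 2 := by nlinarith
    omega
  · exfalso
    rw [h.inv, hidx] at h1
    have : 0 < q ^ 2 := by positivity
    omega
  · obtain ⟨F, hF, hFt, p', hp', hc', hcard, -, hcase⟩ := h1
    rw [h.cardK] at hcard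
    refine ⟨F, hF, hFt, hcard, ?_⟩
    rcases hcase with h2 | ⟨-, ⟨e2⟩⟩
    · exact h2
    · exfalso
      have h3 := H98.DicksonPGL.card_psl_eq F
      rw [← Nat.card_congr e2.toEquiv, h.card, Nat.card_eq_fintype_card, hcard] at h3
      have h4 : Nat.gcd 2 (q - 1) = 2 := by
        obtain ⟨k, hk⟩ := h.hodd
        exact Nat.gcd_eq_left ⟨k, by omega⟩
      rw [h4] at h3
      obtain ⟨r, rfl⟩ : ∃ r, q = r + 1 := ⟨q - 1, by omega⟩
      rw [Nat.add_sub_cancel, show (r + 1) ^ 2 - 1 = r * (r + 2) by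
        rw [show (r + 1) ^ 2 = r * (r + 2) + 1 by ring, Nat.add_sub_cancel]] at h3
      have h5 : 0 < (r + 1) * (r * (r + 2)) := by
        have : 0 < r := by omega
        positivity
      nlinarith
  · exfalso
    obtain ⟨F, hF, hFt, f, hf, hFc, -, hKc, ⟨e2⟩⟩ := h1
    rw [h.cardK] at hKc
    have h3 := H98.DicksonPGL.card_psl_eq F
    rw [← Nat.card_congr e2.toEquiv, h.card, Nat.card_eq_fintype_card, hFc] at h3
    set m := 2 ^ f with hm
    have hm1 : 1 ≤ m := Nat.one_le_two_pow
    have h4 : Nat.gcd 2 (m - 1) = 1 := by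
      rw [← Nat.coprime_iff_gcd_eq_one, Nat.coprime_two_left]
      have h5 : 2 ∣ m := dvd_pow_self 2 (by omega)
      obtain ⟨k, hk⟩ := h5
      exact ⟨k - 1, by omega⟩
    rw [h4, one_mul, hKc] at h3
    obtain ⟨r, hr⟩ : ∃ r, m = r + 1 := ⟨m - 1, by omega⟩
    rw [hr, Nat.add_sub_cancel, show (r + 1 + 1) ^ 2 - 1 = (r + 1) * (r + 3) by
      rw [show (r + 1 + 1) ^ 2 = (r + 1) * (r + 3) + 1 by ring, Nat.add_sub_cancel]] at h3
    nlinarith
  · exfalso
    obtain ⟨d, E, hd, hE, -, hEc, hinf, hsup, ⟨e2⟩⟩ := h1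
    have hc : Nat.card E * Nat.card (normalizer (K : Set G)) = Nat.card G := by
      have h2 : IsComplement' E (normalizer (K : Set G)) := by
        apply isComplement'_of_disjoint_and_mul_eq_univ
        · rw [disjoint_iff]; exact hinf
        · rw [← Subgroup.normal_mul, hsup, coe_top]
      exact h2.card_mul_card
    rw [Nat.card_congr e2.toEquiv, hEc, h.card, DihedralGroup.nat_card] at hc
    have h3 : q ∣ 2 * (2 ^ d + 1) := by
      have h4 := Subgroup.card_dvd_of_le (le_normalizer (H := K))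
      rw [h.cardK, Nat.card_congr e2.toEquiv, DihedralGroup.nat_card] at h4
      exact h4
    have h4 : q ∣ 2 ^ d + 1 := (Nat.coprime_two_right.mpr h.hodd).dvd_of_dvd_mul_left h3
    have hpw : 2 ^ (2 * d) = (2 ^ d) * (2 ^ d) := by rw [two_mul, pow_add]
    rw [hpw] at hc
    have hd2 : 2 ≤ 2 ^ d := by
      calc 2 = 2 ^ 1 := rfl
        _ ≤ 2 ^ d := Nat.pow_le_pow_right (by norm_num) hd
    set m := 2 ^ d with hm
    have h5 := Nat.le_of_dvd (by omega) h4
    obtain ⟨r, rfl⟩ : ∃ r, q = r + 1 := ⟨q - 1, by omega⟩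
    rw [show (r + 1) ^ 2 - 1 = r * (r + 2) by
        rw [show (r + 1) ^ 2 = r * (r + 2) + 1 by ring, Nat.add_sub_cancel]] at hc
    have hrm : r ≤ m := by omega
    have h6 : (r + 1) * (r * (r + 2)) ≤ (m + 1) * (m * (m + 2)) := by
      apply Nat.mul_le_mul (by omega)
      exact Nat.mul_le_mul hrm (by omega)
    rw [← hc] at h6
    have h7 : m * (m * (m + 1)) * 2 ≤ (m + 2) * (m * (m + 1)) := by nlinarith
    have h8 : m * 2 ≤ m + 2 := by
      have h9 : (m * 2) * (m * (m + 1)) ≤ (m + 2) * (m * (m + 1)) := by nlinarith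
      exact Nat.le_of_mul_le_mul_right h9 (by positivity)
    omega

end H62.Nse
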