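import Cfsg.Agent.Lib.H62.SpecA10
import Mathlib.LinearAlgebra.Matrix.NonsingularInverse
import Mathlib.Tactic

set_option autoImplicit false

/-! A double cover of `S₅` inside `GL(4,7)`, acting without fixed points. -/

namespace H62.SpinMat

/-- a 4 by 4 matrix of natural numbers -/
structure Mat where
  a00 : ℕ
  a01 : ℕ
  a02 : ℕ
  a03 : ℕ
  a10 : ℕ
  a11 : ℕ
  a12 : ℕ
  a13 : ℕ
  a20 : ℕ
  a21 : ℕ
  a22 : ℕ
  a23 : ℕ
  a30 : ℕ
  a31 : ℕ
  a32 : ℕ
  a33 : ℕ

/-- product modulo 7 -/
def mul (x y : Mat) : Mat :=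
  ⟨(x.a00 * y.a00 + x.a01 * y.a10 + x.a02 * y.a20 + x.a03 * y.a30) % 7,
    (x.a00 * y.a01 + x.a01 * y.a11 + x.a02 * y.a21 + x.a03 * y.a31) % 7,
    (x.a00 * y.a02 + x.a01 * y.a12 + x.a02 * y.a22 + x.a03 * y.a32) % 7,
    (x.a00 * y.a03 + x.a01 * y.a13 + x.a02 * y.a23 + x.a03 * y.a33) % 7,
    (x.a10 * y.a00 + x.a11 * y.a10 + x.a12 * y.a20 + x.a13 * y.a30) % 7,
    (x.a10 * y.a01 + x.a11 * y.a11 + x.a12 * y.a21 + x.a13 * y.a31) % 7,
    (x.a10 * y.a02 + x.a11 * y.a12 + x.a12 * y.a22 + x.a13 * y.a32) % 7,
    (x.a10 * y.a03 + x.a11 * y.a13 + x.a12 * y.a23 + x.a13 * y.a33) % 7,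
    (x.a20 * y.a00 + x.a21 * y.a10 + x.a22 * y.a20 + x.a23 * y.a30) % 7,
    (x.a20 * y.a01 + x.a21 * y.a11 + x.a22 * y.a21 + x.a23 * y.a31) % 7,
    (x.a20 * y.a02 + x.a21 * y.a12 + x.a22 * y.a22 + x.a23 * y.a32) % 7,
    (x.a20 * y.a03 + x.a21 * y.a13 + x.a22 * y.a23 + x.a23 * y.a33) % 7,
    (x.a30 * y.a00 + x.a31 * y.a10 + x.a32 * y.a20 + x.a33 * y.a30) % 7,
    (x.a30 * y.a01 + x.a31 * y.a11 + x.a32 * y.a21 + x.a33 * y.a31) % 7,
    (x.a30 * y.a02 + x.a31 * y.a12 + x.a32 * y.a22 + x.a33 * y.a32) % 7,
    (x.a30 * y.a03 + x.a31 * y.a13 + x.a32 * y.a23 + x.a33 * y.a33) % 7⟩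

/-- sum modulo 7 -/
def add (x y : Mat) : Mat :=
  ⟨(x.a00 + y.a00) % 7,
    (x.a01 + y.a01) % 7,
    (x.a02 + y.a02) % 7,
    (x.a03 + y.a03) % 7,
    (x.a10 + y.a10) % 7,
    (x.a11 + y.a11) % 7,
    (x.a12 + y.a12) % 7,
    (x.a13 + y.a13) % 7,
    (x.a20 + y.a20) % 7,
    (x.a21 + y.a21) % 7,
    (x.a22 + y.a22) % 7,
    (x.a23 + y.a23) % 7,
    (x.a30 + y.a30) % 7,
    (x.a31 + y.a31) % 7,
    (x.a32 + y.a32) % 7,
    (x.a33 + y.a33) % 7⟩

/-- the negative modulo 7 -/
def neg (x : Mat) : Mat :=
  ⟨(6 * x.a00) % 7,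
    (6 * x.a01) % 7,
    (6 * x.a02) % 7,
    (6 * x.a03) % 7,
    (6 * x.a10) % 7,
    (6 * x.a11) % 7,
    (6 * x.a12) % 7,
    (6 * x.a13) % 7,
    (6 * x.a20) % 7,
    (6 * x.a21) % 7,
    (6 * x.a22) % 7,
    (6 * x.a23) % 7,
    (6 * x.a30) % 7,
    (6 * x.a31) % 7,
    (6 * x.a32) % 7,
    (6 * x.a33) % 7⟩

def one : Mat := ⟨1, 0, 0, 0, 0, 1, 0, 0, 0, 0, 1, 0, 0, 0, 0, 1⟩

/-- zero test modulo 7 -/
def isZero (x : Mat) : Bool :=
  (x.a00 % 7 == 0) && (x.a01 % 7 == 0) && (x.a02 % 7 == 0) && (x.a03 % 7 == 0) && (x.a10 % 7 == 0) && (x.a11 % 7 == 0) && (x.a12 % 7 == 0) && (x.a13 % 7 == 0) && (x.a20 % 7 == 0) && (x.a21 % 7 == 0) && (x.a22 % 7 == 0) && (x.a23 % 7 == 0) && (x.a30 % 7 == 0) && (x.a31 % 7 == 0) && (x.a32 % 7 == 0) && (x.a33 % 7 == 0)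

/-- decoding -/
def dec (v : ℕ) : Mat :=
  ⟨v / 1 % 7,
    v / 7 % 7,
    v / 49 % 7,
    v / 343 % 7,
    v / 2401 % 7,
    v / 16807 % 7,
    v / 117649 % 7,
    v / 823543 % 7,
    v / 5764801 % 7,
    v / 40353607 % 7,
    v / 282475249 % 7,
    v / 1977326743 % 7,
    v / 13841287201 % 7,
    v / 96889010407 % 7,
    v / 678223072849 % 7,
    v / 4747561509943 % 7⟩

/-- encoding -/
def enc (x : Mat) : ℕ :=
  x.a00 * 1 + x.a01 * 7 + x.a02 * 49 + x.a03 * 343 + x.a10 * 2401 + x.a11 * 16807 + x.a12 * 117649 + x.a13 * 823543 + x.a20 * 5764801 + x.a21 * 40353607 + x.a22 * 282475249 + x.a23 * 1977326743 + x.a30 * 13841287201 + x.a31 * 96889010407 + x.a32 * 678223072849 + x.a33 * 4747561509943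

/-- binary search trees -/
inductive Tree where
  | leaf : Tree
  | node (l : Tree) (v : ℕ) (r : Tree) : Tree

/-- membership -/
def Tree.mem (x : ℕ) : Tree → Bool
  | .leaf => false
  | .node l v r => (x == v) || (if x < v then l.mem x else r.mem x)

/-- all -/
def Tree.all (P : ℕ → Bool) : Tree → Bool
  | .leaf => true
  | .node l v r => P v && (l.all P && r.all P)

theorem Tree.all_mem (P : ℕ → Bool) (x : ℕ) : ∀ t : Tree, t.all P = true → t.mem x = true → P x = true
  | .leaf, _, h => by simp [Tree.mem] at h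
  | .node l v r, h1, h2 => by
    rw [Tree.all, Bool.and_eq_true, Bool.and_eq_true] at h1
    rw [Tree.mem, Bool.or_eq_true] at h2
    rcases h2 with h2 | h2
    · rw [beq_iff_eq] at h2
      rw [h2]; exact h1.1
    · split_ifs at h2
      · exact Tree.all_mem P x l h1.2.1 h2
      · exact Tree.all_mem P x r h1.2.2 h2

/-- the real matrix -/
def toM (x : Mat) : Matrix (Fin 4) (Fin 4) (ZMod 7) :=
  !![(x.a00 : ZMod 7), (x.a01 : ZMod 7), (x.a02 : ZMod 7), (x.a03 : ZMod 7); (x.a10 : ZMod 7), (x.a11 : ZMod 7), (x.a12 : ZMod 7), (x.a13 : ZMod 7); (x.a20 : ZMod 7), (x.a21 : ZMod 7), (x.a22 : ZMod 7), (x.a23 : ZMod 7); (x.a30 : ZMod 7), (x.a31 : ZMod 7), (x.a32 : ZMod 7), (x.a33 : ZMod 7)]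

theorem c7 (n : ℕ) : ((n % 7 : ℕ) : ZMod 7) = (n : ZMod 7) := ZMod.natCast_mod n 7

theorem toM_mul (x y : Mat) : toM (mul x y) = toM x * toM y := by
  ext i j
  fin_cases i <;> fin_cases j <;> simp [toM, mul, Matrix.mul_apply, Fin.sum_univ_four]

theorem toM_add (x y : Mat) : toM (add x y) = toM x + toM y := by
  ext i j
  fin_cases i <;> fin_cases j <;> simp [toM, add]

theorem toM_neg (x : Mat) : toM (neg x) = - toM x := by
  have h6 : (6 : ZMod 7) = -1 := by decide
  ext i j
  fin_cases i <;> fin_cases j <;> simp [toM, neg, h6]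

theorem toM_one : toM one = 1 := by
  ext i j
  fin_cases i <;> fin_cases j <;> simp [toM, one]

theorem isZero_toM (x : Mat) (h : isZero x = true) : toM x = 0 := by
  simp only [isZero, Bool.and_eq_true, beq_iff_eq] at h
  have key : ∀ n : ℕ, n % 7 = 0 → (n : ZMod 7) = 0 := by
    intro n hn
    rw [← c7, hn, Nat.cast_zero]
  ext i j
  fin_cases i <;> fin_cases j <;> simp [toM, key, h]

/-- equality test -/
def eqM (x y : Mat) : Bool := isZero (add x (neg y))

theorem eqM_toM (x y : Mat) (h : eqM x y = true) : toM x = toM y := by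
  have := isZero_toM _ h
  rw [toM_add, toM_neg] at this
  exact sub_eq_zero.mp (by rw [sub_eq_add_neg]; exact this)

/-- the generators -/
def ga : Mat := ⟨1, 5, 5, 5, 4, 1, 4, 5, 5, 2, 3, 6, 3, 5, 2, 3⟩
def gb : Mat := ⟨1, 5, 2, 0, 3, 6, 0, 5, 2, 0, 6, 5, 0, 5, 3, 1⟩

/-- the list of the 240 elements -/
def T : Tree := (.node (.node (.node (.node (.node (.node (.node (.node .leaf 755586150464 .leaf) 921668041644 (.node .leaf 1267477375473 .leaf)) 1279487526964 (.node (.node .leaf 1307129147159 .leaf) 1506811479818 (.node .leaf 1520773522258 .leaf))) 1538520242754 (.node (.node (.node .leaf 1912333296904 .leaf) 1995214790584 (.node .leaf 2038626352448 .leaf)) 2094193452775 (.node (.node .leaf 2127728309321 .leaf) 2141481682978 (.node .leaf 2570742079206 .leaf)))) 2722782226696 (.node (.node (.node (.node .leaf 2730852699079 .leaf) 2764387555625 (.node .leaf 2966102237994 .leaf)) 3298191266222 (.node (.node .leaf 3541629644272 .leaf) 3624511137952 (.node .leaf 3998324175246 .leaf))) 4016070086654 (.node (.node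 (.node .leaf 4030032955038 .leaf) 4102994857936 (.node .leaf 4172195573727 .leaf)) 4229714444897 (.node (.node .leaf 4257356907892 .leaf) 4615176275556 .leaf)))) 4747844002000 (.node (.node (.node (.node (.node .leaf 4804703270774 .leaf) 4929352968142 (.node .leaf 4943068248406 .leaf)) 5329214384472 (.node (.node .leaf 5459926187238 .leaf) 5629198983668 (.node .leaf 5930438367324 .leaf))) 5958079987519 (.node (.node (.node .leaf 6058459379896 .leaf) 6213049333049 (.node .leaf 6218610353376 .leaf)) 6379193133690 (.node (.node .leaf 6559304088027 .leaf) 6744468526477 .leaf))) 6807818419943 (.node (.node (.node (.node .leaf 6952613064256 .leaf) 6966575812534 (.node .leaf 7278273021230 .leaf)) 7375157691601 (.node (.node .leaf 7507830567560 .leaf) 7549274925451 (.node .leaf 7719981433643 .leaf))) 7913770196456 (.node (.node (.node .leaf 7950564116230 .leaf) 8249161294584 (.node .leaf 8362656154394 .leaf)) 8680978030254 (.node (.node .leaf 8775301234296 .leaf) 8777876839382 .leaf))))) 8935458680872 (.node (.node (.node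 (.node (.node (.node .leaf 8991233634704 .leaf) 9046807796848 (.node .leaf 9268239245571 .leaf)) 9364430129098 (.node (.node .leaf 9551985444431 .leaf) 9745047751237 (.node .leaf 9787228041418 .leaf))) 10132623605703 (.node (.node (.node .leaf 10161045902420 .leaf) 10207770189238 (.node .leaf 10570243669274 .leaf)) 10708855729112 (.node (.node .leaf 10736575232148 .leaf) 10789140454054 .leaf))) 10868966231336 (.node (.node (.node (.node .leaf 11154687745399 .leaf) 11168649787790 (.node .leaf 11307148090027 .leaf)) 11381142018954 (.node (.node .leaf 11624264141743 .leaf) 11742063953212 (.node .leaf 11921895579148 .leaf))) 12129645455166 (.node (.node (.node .leaf 12177877044544 .leaf) 12523118839306 (.node .leaf 12661614198456 .leaf)) 12753289925462 (.node (.node .leaf 12827761024502 .leaf) 12877893521572 .leaf)))) 12899516464249 (.node (.node (.node (.node (.node .leaf 13165782900376 .leaf) 13179467028646 (.node .leaf 13411698707764 .leaf)) 13428822032254 (.node (.node .leaf 13641255445006 .leaf) 13876503366478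 (.node .leaf 13960516149645 .leaf))) 14016083247571 (.node (.node (.node .leaf 14167150906806 .leaf) 14395998591597 (.node .leaf 14493070483644 .leaf)) 14714557446760 (.node (.node .leaf 14866882818845 .leaf) 14880467607703 .leaf))) 14996934451712 (.node (.node (.node (.node .leaf 15110044486104 .leaf) 15414403461943 (.node .leaf 15481409115306 .leaf)) 15536984456054 (.node (.node .leaf 15685411248614 .leaf) 15810051270549 (.node .leaf 16003814831994 .leaf))) 16137925123307 (.node (.node (.node .leaf 16165567583852 .leaf) 16330100114575 (.node .leaf 16393014793572 .leaf)) 16434619178852 (.node (.node .leaf 16752949556809 .leaf) 16925160044439 .leaf)))))) 17021880396619 (.node (.node (.node (.node (.node (.node (.node .leaf 17367857699175 .leaf) 17500566334612 (.node .leaf 17575605026502 .leaf)) 17583730320397 (.node (.node .leaf 17816733740736 .leaf) 17840601503462 (.node .leaf 18107415665238 .leaf))) 18145256043373 (.node (.node (.node .leaf 18158975234612 .leaf) 18319085753643 (.node .leaf 18348704685888 .leaf))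 18431641129164 (.node (.node .leaf 18720663159490 .leaf) 18888464783787 .leaf))) 19129875318409 (.node (.node (.node (.node .leaf 19143466715211 .leaf) 19295791261352 (.node .leaf 19517278224468 .leaf)) 19614349998859 (.node (.node .leaf 19677230839501 .leaf) 19744778453712 (.node .leaf 19883287547413 .leaf))) 20051089171710 (.node (.node (.node .leaf 20340111202036 .leaf) 20612777096588 (.node .leaf 20626496287827 .leaf)) 20664336665962 (.node (.node .leaf 20833978516138 .leaf) 20955018472808 .leaf)))) 21071608390469 (.node (.node (.node (.node (.node .leaf 21188022010803 .leaf) 21196141539554 (.node .leaf 21271185153788 .leaf)) 21403894632025 (.node (.node .leaf 21763387947369 .leaf) 21846592286761 (.node .leaf 22018802774391 .leaf))) 22337132208748 (.node (.node (.node .leaf 22378737537628 .leaf) 22408077656130 (.node .leaf 22606184747348 .leaf)) 22633827207893 (.node (.node .leaf 22767936656406 .leaf) 22961701060651 .leaf))) 23096548687888 (.node (.node (.node (.node .leaf 23234767875146 .leaf) 23260170792513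 (.node .leaf 23290343215894 .leaf)) 23661707845096 (.node (.node .leaf 23780099837225 .leaf) 23849303513980 (.node .leaf 23877719320409 .leaf))) 24125949164182 (.node (.node (.node .leaf 24265300956875 .leaf) 24452233342082 (.node .leaf 24604600598450 .leaf)) 24714064695899 (.node (.node .leaf 24755669083629 .leaf) 24895248964722 .leaf))))) 25096800128895 (.node (.node (.node (.node (.node (.node .leaf 25342924533802 .leaf) 25360053505780 (.node .leaf 25495113816898 .leaf)) 25605969430824 (.node (.node .leaf 25893857983684 .leaf) 25943985541554 (.node .leaf 26018462405738 .leaf))) 26110138132744 (.node (.node (.node .leaf 26248633491894 .leaf) 26469224763001 (.node .leaf 26593868695568 .leaf)) 26642106876034 (.node (.node .leaf 26752685266396 .leaf) 27029682612844 .leaf))) 27224522673408 (.node (.node (.node (.node .leaf 27390609486302 .leaf) 27464604241173 (.node .leaf 27519893100145 .leaf)) 27603101717466 (.node (.node .leaf 27885718715506 .leaf) 27982611877146 (.node .leaf 28035177099052 .leaf))) 28062896602088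 (.node (.node (.node .leaf 28104336350326 .leaf) 28487064012000 (.node .leaf 28527382836826 .leaf)) 28583962821128 (.node (.node .leaf 28970108957194 .leaf) 29080995739970 .leaf)))) 29407321376158 (.node (.node (.node (.node (.node .leaf 29503513085629 .leaf) 29724944534352 (.node .leaf 29780512931352 .leaf)) 29836293650328 (.node (.node .leaf 29993875374162 .leaf) 29996444505816 (.node .leaf 30090768535802 .leaf))) 30409096176806 (.node (.node (.node .leaf 30425419433304 .leaf) 30544213861637 (.node .leaf 30585658320328 .leaf)) 30724015903370 (.node (.node .leaf 30857982134744 .leaf) 31051770897557 .leaf))) 31285670484801 (.node (.node (.node (.node .leaf 31299423036287 .leaf) 31396306998370 (.node .leaf 31805176518666 .leaf)) 31819139266944 (.node (.node .leaf 32027283787867 .leaf) 32212448243173 (.node .leaf 32392559197510 .leaf))) 32461525747351 (.node (.node (.node .leaf 32553141135024 .leaf) 32633562717506 (.node .leaf 32713292833648 .leaf)) 32813671500881 (.node (.node .leaf 32841313963876 .leaf) 33045381035932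 .leaf)))))))

/-- closure test -/
def closed (v : ℕ) : Bool :=
  (T.mem (enc (mul ga (dec v))) && eqM (dec (enc (mul ga (dec v)))) (mul ga (dec v))) &&
  (T.mem (enc (mul gb (dec v))) && eqM (dec (enc (mul gb (dec v)))) (mul gb (dec v)))

/-- cyclotomic test -/
def good (v : ℕ) : Bool :=
  isZero (add (dec v) (neg one)) || isZero (add (dec v) one) ||
  isZero (add (mul (dec v) (dec v)) (add (dec v) one)) ||
  isZero (add (mul (dec v) (dec v)) one) ||
  isZero (add (mul (dec v) (dec v)) (add (neg (dec v)) one)) ||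
  isZero (add (mul (mul (dec v) (dec v)) (mul (dec v) (dec v))) one) ||
  isZero (add (mul (mul (dec v) (dec v)) (mul (dec v) (dec v))) (add (neg (mul (dec v) (dec v))) one)) ||
  isZero (add (mul (mul (dec v) (dec v)) (mul (dec v) (dec v))) (add (mul (mul (dec v) (dec v)) (dec v))
    (add (mul (dec v) (dec v)) (add (dec v) one)))) ||
  isZero (add (mul (mul (dec v) (dec v)) (mul (dec v) (dec v))) (add (neg (mul (mul (dec v) (dec v)) (dec v)))
    (add (mul (dec v) (dec v)) (add (neg (dec v)) one))))

set_option maxRecDepth 100000 in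
theorem closed_all : T.all closed = true := by decide +kernel

set_option maxRecDepth 100000 in
theorem good_all : T.all good = true := by decide +kernel

theorem one_mem : T.mem (enc one) = true := by decide +kernel

theorem dec_enc_one : eqM (dec (enc one)) one = true := by decide +kernel

end H62.SpinMat
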